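import Groth.Agent.Calg2.Uniform.FibresScheme
import Mathlib.RingTheory.Spectrum.Prime.ConstructibleSet

/-!
# Noetherian models of morphisms with geometrically reduced fibres
-/

universe u

open CategoryTheory Limits AlgebraicGeometry TensorProduct

namespace Groth.Calg2.Uniform

open MvPolynomial in
theorem exists_geomRed_model {R : Type u} [CommRing R] {N : ℕ} (I : Ideal (MvPolynomial (Fin N) R))
    (hI : I.FG) (h : ∀ p, GeomRedAt I p) :
    ∃ (R₁ : Subalgebra ℤ R) (c : ℕ) (F : Fin c → MvPolynomial (Fin N) R₁), R₁.FG ∧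
      (Ideal.span (Set.range F)).map (MvPolynomial.map R₁.val.toRingHom) = I ∧
      ∀ q : PrimeSpectrum R₁, GeomRedAt (Ideal.span (Set.range F)) q := by
  classical
  obtain ⟨t, rfl⟩ := hI
  let G : Fin t.card → MvPolynomial (Fin N) R := fun j => (t.equivFin.symm j).1
  have hG : Set.range G = (t : Set (MvPolynomial (Fin N) R)) := by
    ext x
    exact ⟨fun ⟨j, hj⟩ => hj ▸ (t.equivFin.symm j).2, fun hx => ⟨t.equivFin ⟨x, hx⟩, by simp [G]⟩⟩
  let T : Finset R := Finset.univ.biUnion fun j => cfs (G j)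
  let R₀ : Subalgebra ℤ R := Algebra.adjoin ℤ (T : Set R)
  have : Algebra.FiniteType ℤ R₀ :=
    (Subalgebra.fg_iff_finiteType _).1 (Subalgebra.fg_adjoin_finset _)
  have : IsNoetherianRing R₀ := Algebra.FiniteType.isNoetherianRing ℤ R₀
  choose F₀ hF₀ using fun j => exists_lift_poly (G j) R₀ fun x hx => Algebra.subset_adjoin
    (Finset.mem_coe.2 (Finset.mem_biUnion.2 ⟨j, Finset.mem_univ j, hx⟩))
  obtain ⟨s, hs⟩ := PrimeSpectrum.exists_constructibleSetData_iff.2
    (isConstructible_geomRedAt_of_isNoetherian F₀).compl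
  have hmiss : ∀ C : s, ∃ (n : ℕ) (r : Fin C.1.n → R), (C.1.f : R) ^ n = ∑ i, r i * (C.1.g i : R) := by
    intro C
    have hrad : (C.1.f : R) ∈ (Ideal.span (Set.range fun i => (C.1.g i : R))).radical := by
      rw [Ideal.radical_eq_sInf]
      refine Ideal.mem_sInf.2 fun {P} hP => ?_
      by_contra hf
      have : P.IsPrime := hP.2
      let p : PrimeSpectrum R := ⟨P, hP.2⟩
      have hmem : PrimeSpectrum.comap R₀.val.toRingHom p ∈ C.1.toSet := by
        refine ⟨?_, fun hh => hf ?_⟩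
        · rintro _ ⟨i, rfl⟩
          exact hP.1 (Ideal.subset_span ⟨i, rfl⟩)
        · exact hh rfl
      have h2 : PrimeSpectrum.comap R₀.val.toRingHom p ∈ s.toSet :=
        Set.mem_biUnion (Finset.mem_coe.2 C.2) hmem
      rw [hs] at h2
      refine h2 fun L _ φ hφ => ?_
      rcases all_or_none.{u, u} F₀ (PrimeSpectrum.comap R₀.val.toRingHom p) with h3 | h3
      · exact h3 L φ hφ
      · exfalso
        let Ω := AlgebraicClosure p.asIdeal.ResidueField
        let χ : R →+* Ω := (algebraMap p.asIdeal.ResidueField Ω).comp (algebraMap R p.asIdeal.ResidueField)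
        have hχ : RingHom.ker χ = p.asIdeal := residue_ker p
        have h4 := h p Ω χ hχ
        unfold Red at h4
        rw [← hG, map_span_range, span_map_model _ χ hF₀, ← map_span_range] at h4
        refine h3 Ω (χ.comp R₀.val.toRingHom) ?_ h4
        rw [← RingHom.comap_ker, hχ]
        rfl
    obtain ⟨n, hn⟩ := hrad
    obtain ⟨r, hr⟩ := Ideal.mem_span_range_iff_exists_fun.1 hn
    exact ⟨n, r, hr.symm⟩
  choose n r hr using hmiss
  let T' : Finset R := T ∪ Finset.univ.biUnion fun C : s => Finset.univ.image (r C)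
  let R₁ : Subalgebra ℤ R := Algebra.adjoin ℤ (T' : Set R)
  have hle : R₀ ≤ R₁ := Algebra.adjoin_mono (Finset.coe_subset.2 Finset.subset_union_left)
  let incl : R₀ →+* R₁ := (Subalgebra.inclusion hle).toRingHom
  refine ⟨R₁, t.card, fun j => MvPolynomial.map incl (F₀ j), Subalgebra.fg_adjoin_finset _, ?_, ?_⟩
  · rw [map_span_range, ← hG]
    congr 2
    funext j
    rw [MvPolynomial.map_map]
    exact hF₀ j
  · intro q L _ φ hφ
    rw [← map_span_range, red_comp]
    have hq₀ : PrimeSpectrum.comap incl q ∉ s.toSet := by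
      intro hmem
      obtain ⟨C, hC, hCg, hCf⟩ := Set.mem_iUnion₂.1 hmem
      refine hCf ?_
      rintro _ rfl
      let C' : s := ⟨C, hC⟩
      have hrmem : ∀ i, r C' i ∈ R₁ := fun i => Algebra.subset_adjoin (Finset.mem_coe.2
        (Finset.mem_union_right _ (Finset.mem_biUnion.2 ⟨C', Finset.mem_univ _,
          Finset.mem_image.2 ⟨i, Finset.mem_univ i, rfl⟩⟩)))
      have heq : incl C.f ^ n C' = ∑ i, (⟨r C' i, hrmem i⟩ : R₁) * incl (C.g i) := by
        apply Subtype.val_injective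
        simp only [SubmonoidClass.coe_pow, AddSubmonoidClass.coe_finsetSum, MulMemClass.coe_mul]
        exact hr C'
      refine q.2.mem_of_pow_mem (n C') ?_
      rw [heq]
      exact Ideal.sum_mem _ fun i _ => Ideal.mul_mem_left _ _ (hCg ⟨i, rfl⟩)
    rw [hs, Set.mem_compl_iff, not_not] at hq₀
    refine hq₀ L (φ.comp incl) ?_
    rw [← RingHom.comap_ker, hφ]
    rfl

theorem geometricallyReduced_Spec_map {R A : Type u} [CommRing R] [CommRing A] [Algebra R A] {N : ℕ}
    (π : MvPolynomial (Fin N) R →ₐ[R] A) (hπ : Function.Surjective π)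
    (h : ∀ q, GeomRedAt (RingHom.ker π.toRingHom) q) :
    GeometricallyReduced (Spec.map (CommRingCat.ofHom (algebraMap R A))) := by
  rw [GeometricallyReduced.eq_geometrically, geometrically_iff_of_commRing_of_isClosedUnderIsomorphisms]
  intro K _ alg
  let _ : Algebra R K := alg
  have hred : _root_.IsReduced (A ⊗[R] K) := (isReduced_tensor_iff π hπ).2
    (h ⟨RingHom.ker (algebraMap R K), RingHom.ker_isPrime _⟩ K _ rfl)
  have h5 : IsReduced (Spec (.of (A ⊗[R] K))) := (affine_isReduced_iff _).2 hred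
  exact @isReduced_of_isOpenImmersion _ _ (pullbackSpecIso R A K).hom inferInstance h5

/-- Noetherian approximation for affine morphisms with geometrically reduced fibres. -/
theorem exists_model_geometricallyReduced {X S : Scheme.{u}} (f : X ⟶ S) [IsAffine X] [IsAffine S]
    [LocallyOfFinitePresentation f] [GeometricallyReduced f] :
    ∃ (X₀ S₀ : Scheme.{u}) (f₀ : X₀ ⟶ S₀) (g : S ⟶ S₀) (g' : X ⟶ X₀), IsAffine X₀ ∧ IsAffine S₀ ∧
      IsPullback g' f f₀ g ∧ Algebra.FiniteType ℤ Γ(S₀, ⊤) ∧ LocallyOfFiniteType f₀ ∧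
        GeometricallyReduced f₀ := by
  let R := Γ(S, ⊤)
  let A := Γ(X, ⊤)
  obtain ⟨ρ, hρ⟩ := Spec.map_surjective (X.isoSpec.inv ≫ f ≫ S.isoSpec.hom)
  let _ : Algebra R A := ρ.hom.toAlgebra
  have hfp : Algebra.FinitePresentation R A := by
    have h1 : LocallyOfFinitePresentation (Spec.map ρ) := by rw [hρ]; infer_instance
    exact (HasRingHomProperty.Spec_iff (P := @LocallyOfFinitePresentation)).1 h1
  obtain ⟨N, π, hπ, hker⟩ := Algebra.FinitePresentation.out (R := R) (A := A)
  have hgr : ∀ p, GeomRedAt (RingHom.ker π.toRingHom) p := by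
    intro p K _ φ _
    let _ : Algebra R K := φ.toAlgebra
    have h1 : GeometricallyReduced (Spec.map ρ) := by
      rw [hρ]
      have h2 : GeometricallyReduced f := inferInstance
      rw [GeometricallyReduced.eq_geometrically] at h2 ⊢
      exact ((geometrically IsReduced).cancel_left_of_respectsIso _ _).2
        (((geometrically IsReduced).cancel_right_of_respectsIso _ _).2 h2)
    have h3 : IsReduced (pullback (Spec.map ρ) (Spec.map (CommRingCat.ofHom φ))) :=
      h1.geometrically_isReduced _ _ _ (IsPullback.of_hasPullback _ _)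
    have h4 : IsReduced (Spec (.of ((A : Type u) ⊗[R] K))) :=
      @isReduced_of_isOpenImmersion _ _ (pullbackSpecIso R A K).inv inferInstance h3
    exact (isReduced_tensor_iff π hπ).1 ((affine_isReduced_iff _).1 h4)
  obtain ⟨R₁, c, F, hR₁, hF, hgr₁⟩ := exists_geomRed_model _ hker hgr
  let J : Ideal (MvPolynomial (Fin N) R₁) := Ideal.span (Set.range F)
  have hJ : J ≤ RingHom.ker (π.toRingHom.comp (MvPolynomial.map R₁.val.toRingHom)) := by
    intro x hx
    have h1 : MvPolynomial.map R₁.val.toRingHom x ∈ RingHom.ker π.toRingHom :=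
      hF ▸ Ideal.mem_map_of_mem _ hx
    exact h1
  let h' : (MvPolynomial (Fin N) R₁ ⧸ J) →+* A := Ideal.Quotient.lift J _ hJ
  let i₁ : CommRingCat.of R₁ ⟶ R := CommRingCat.ofHom R₁.val.toRingHom
  let i₂ : CommRingCat.of R₁ ⟶ CommRingCat.of (MvPolynomial (Fin N) R₁ ⧸ J) := CommRingCat.ofHom (algebraMap R₁ (MvPolynomial (Fin N) R₁ ⧸ J))
  let j₂ : CommRingCat.of (MvPolynomial (Fin N) R₁ ⧸ J) ⟶ A := CommRingCat.ofHom h'
  have hcomm : i₁ ≫ ρ = i₂ ≫ j₂ := by
    ext a
    change algebraMap R A (R₁.val a) = h' (Ideal.Quotient.mk J (MvPolynomial.C a))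
    rw [Ideal.Quotient.lift_mk, RingHom.comp_apply, MvPolynomial.map_C]
    exact (π.commutes _).symm
  have key : ∀ s : PushoutCocone i₁ i₂, ∃ d : (A : Type u) →+* s.pt,
      (∀ a, d (algebraMap R A a) = s.inl.hom a) ∧ (∀ x, d (h' x) = s.inr.hom x) ∧
      ∀ d' : (A : Type u) →+* s.pt, (∀ a, d' (algebraMap R A a) = s.inl.hom a) →
        (∀ x, d' (h' x) = s.inr.hom x) → d' = d := by
    intro s
    let β : (MvPolynomial (Fin N) R₁ ⧸ J) →+* s.pt := s.inr.hom
    let Φ : MvPolynomial (Fin N) R →+* s.pt :=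
      MvPolynomial.eval₂Hom s.inl.hom fun i => β (Ideal.Quotient.mk J (MvPolynomial.X i))
    have hΦ : Φ.comp (MvPolynomial.map R₁.val.toRingHom) = β.comp (Ideal.Quotient.mk J) := by
      refine MvPolynomial.ringHom_ext (fun a => ?_) fun i => ?_
      · simp only [RingHom.comp_apply, MvPolynomial.map_C, Φ, MvPolynomial.eval₂Hom_C]
        exact congrArg (fun q : CommRingCat.of R₁ ⟶ s.pt => q.hom a) s.condition
      · simp [Φ]
    have hs : RingHom.ker π.toRingHom ≤ RingHom.ker Φ := by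
      rw [← hF, Ideal.map_span, Ideal.span_le]
      rintro _ ⟨_, ⟨j, rfl⟩, rfl⟩
      rw [SetLike.mem_coe, RingHom.mem_ker, ← RingHom.comp_apply, hΦ, RingHom.comp_apply,
        Ideal.Quotient.eq_zero_iff_mem.2 (Ideal.subset_span (α := MvPolynomial (Fin N) R₁) (s := Set.range F) ⟨j, rfl⟩),
        map_zero]
    let d := RingHom.liftOfSurjective π.toRingHom hπ
      (⟨Φ, hs⟩ : {g : MvPolynomial (Fin N) R →+* s.pt // RingHom.ker π.toRingHom ≤ RingHom.ker g})
    have hd : ∀ p, d (π p) = Φ p := fun p => RingHom.liftOfSurjective_comp_apply _ hπ _ p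
    refine ⟨d, fun a => ?_, fun x => ?_, fun d' h1 h2 => ?_⟩
    · rw [← π.commutes, hd]
      exact MvPolynomial.eval₂Hom_C _ _ _
    · obtain ⟨x, rfl⟩ := Ideal.Quotient.mk_surjective x
      exact (hd _).trans (DFunLike.congr_fun hΦ x)
    · refine RingHom.ext fun a => ?_
      obtain ⟨p, rfl⟩ := hπ a
      rw [hd]
      refine DFunLike.congr_fun (f := d'.comp π.toRingHom) (g := Φ)
        (MvPolynomial.ringHom_ext (fun b => ?_) fun i => ?_) p
      · simp only [Φ, MvPolynomial.eval₂Hom_C, RingHom.comp_apply]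
        exact (congrArg d' (π.commutes b)).trans (h1 b)
      · simp only [Φ, MvPolynomial.eval₂Hom_X', RingHom.comp_apply]
        refine Eq.trans ?_ (h2 (Ideal.Quotient.mk J (MvPolynomial.X i)))
        congr 1
        refine Eq.trans ?_ (Ideal.Quotient.lift_mk _ _ _).symm
        rw [RingHom.comp_apply, MvPolynomial.map_X]
  choose d hd₁ hd₂ hd₃ using key
  have hpush : IsPushout i₁ i₂ ρ j₂ := by
    refine IsPushout.of_isColimit' ⟨hcomm⟩
      (PushoutCocone.IsColimit.mk hcomm (fun s => CommRingCat.ofHom (d s)) ?_ ?_ ?_)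
    · exact fun s => CommRingCat.hom_ext (RingHom.ext fun a => hd₁ s a)
    · exact fun s => CommRingCat.hom_ext (RingHom.ext fun a => hd₂ s a)
    · exact fun s m h1 h2 => CommRingCat.hom_ext (hd₃ s m.hom
        (fun a => congrArg (fun q : R ⟶ s.pt => q.hom a) h1)
        (fun x => congrArg (fun q : CommRingCat.of (MvPolynomial (Fin N) R₁ ⧸ J) ⟶ s.pt => q.hom x) h2))
  have : Algebra.FiniteType ℤ R₁ := (Subalgebra.fg_iff_finiteType _).1 hR₁
  let f₀ := Spec.map i₂
  refine ⟨Spec (.of (MvPolynomial (Fin N) R₁ ⧸ J)), Spec (.of R₁), f₀, S.isoSpec.hom ≫ Spec.map i₁, X.isoSpec.hom ≫ Spec.map j₂,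
    inferInstance, inferInstance, ?_, ?_, ?_, ?_⟩
  · have h1 := (isPullback_SpecMap_of_isPushout i₁ i₂ ρ j₂ hpush).flip
    refine h1.of_iso X.isoSpec.symm (Iso.refl _) S.isoSpec.symm (Iso.refl _) ?_ ?_ ?_ ?_
    · simp
    · simp [hρ]
    · simp [f₀]
    · simp
  · exact Algebra.FiniteType.equiv ‹Algebra.FiniteType ℤ R₁›
      (Scheme.ΓSpecIso (.of R₁)).symm.commRingCatIsoToRingEquiv.toIntAlgEquiv
  · exact (HasRingHomProperty.Spec_iff (P := @LocallyOfFiniteType)).2
      (RingHom.finiteType_algebraMap.2 inferInstance)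
  · refine geometricallyReduced_Spec_map (Ideal.Quotient.mkₐ R₁ J) (Ideal.Quotient.mkₐ_surjective R₁ J) ?_
    rw [show RingHom.ker (Ideal.Quotient.mkₐ R₁ J).toRingHom = J from Ideal.Quotient.mkₐ_ker R₁ J]
    exact hgr₁

end Groth.Calg2.Uniform
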