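import Groth.Agent.Calg2.Uniform.Syzygy
import Mathlib.RingTheory.Ideal.Operations
import Mathlib.Algebra.MvPolynomial.Degrees

/-!
# Uniform bounds over all fields by Noetherian induction; uniform syzygy bound
-/

universe u

namespace Groth.Calg2.Uniform

open MvPolynomial

theorem exists_bound_of_generic {A₀ : Type} [CommRing A₀] [IsNoetherianRing A₀]
    (Good : ∀ (k : Type u) [Field k], (A₀ →+* k) → ℕ → Prop)
    (mono : ∀ (k : Type u) [Field k] (φ : A₀ →+* k) (D D' : ℕ), D ≤ D' → Good k φ D → Good k φ D')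
    (hgen : ∀ P : Ideal A₀, P.IsPrime → ∃ f : A₀ ⧸ P, f ≠ 0 ∧ ∃ D : ℕ,
      ∀ (k : Type u) [Field k] (ψ : A₀ ⧸ P →+* k), ψ f ≠ 0 →
        Good k (ψ.comp (Ideal.Quotient.mk P)) D) :
    ∃ D : ℕ, ∀ (k : Type u) [Field k] (φ : A₀ →+* k), Good k φ D := by
  let Pr : Ideal A₀ → Prop := fun I => ∃ D : ℕ, ∀ (k : Type u) [Field k] (φ : A₀ →+* k),
    I ≤ RingHom.ker φ → Good k φ D
  suffices ∀ I, Pr I by
    obtain ⟨D, hD⟩ := this ⊥
    exact ⟨D, fun k _ φ => hD k φ bot_le⟩
  intro I
  induction I using IsNoetherian.induction with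
  | _ I ih =>
    by_cases htop : I = ⊤
    · refine ⟨0, fun k _ φ h => absurd (htop ▸ h) ?_⟩
      intro h'
      have := h' (Submodule.mem_top (x := (1 : A₀)))
      rw [RingHom.mem_ker, map_one] at this
      exact one_ne_zero this
    by_cases hI : Ideal.IsPrime I
    · obtain ⟨f, hf, D, hD⟩ := hgen I hI
      obtain ⟨f₀, rfl⟩ := Ideal.Quotient.mk_surjective f
      have hlt : I < I ⊔ Ideal.span {f₀} := by
        refine lt_of_le_of_ne le_sup_left fun h => hf (Ideal.Quotient.eq_zero_iff_mem.2 ?_)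
        rw [h]
        exact Ideal.mem_sup_right (Ideal.mem_span_singleton_self f₀)
      obtain ⟨D', hD'⟩ := ih _ hlt
      refine ⟨max D D', fun k _ φ h => ?_⟩
      by_cases hφ : φ f₀ = 0
      · exact mono k φ D' _ (le_max_right _ _) (hD' k φ
          (sup_le h ((Ideal.span_singleton_le_iff_mem _).2 hφ)))
      · have := hD k (Ideal.Quotient.lift I φ fun a ha => h ha) (by simpa using hφ)
        rw [show (Ideal.Quotient.lift I φ fun a ha => h ha).comp (Ideal.Quotient.mk I) = φ from
          RingHom.ext fun _ => rfl] at this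
        exact mono k φ D _ (le_max_left _ _) this
    · rw [Ideal.isPrime_iff] at hI
      push Not at hI
      obtain ⟨a, b, hab, ha, hb⟩ := hI htop
      have hlt : ∀ c, c ∉ I → I < I ⊔ Ideal.span {c} := fun c hc =>
        lt_of_le_of_ne le_sup_left fun h => hc (h ▸ Ideal.mem_sup_right (Ideal.mem_span_singleton_self c))
      obtain ⟨D₁, hD₁⟩ := ih _ (hlt a ha)
      obtain ⟨D₂, hD₂⟩ := ih _ (hlt b hb)
      refine ⟨max D₁ D₂, fun k _ φ h => ?_⟩
      have h0 : φ a * φ b = 0 := by rw [← map_mul]; exact h hab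
      rcases mul_eq_zero.1 h0 with h1 | h1
      · exact mono k φ D₁ _ (le_max_left _ _) (hD₁ k φ
          (sup_le h ((Ideal.span_singleton_le_iff_mem _).2 h1)))
      · exact mono k φ D₂ _ (le_max_right _ _) (hD₂ k φ
          (sup_le h ((Ideal.span_singleton_le_iff_mem _).2 h1)))

/-- The exponents with all entries at most `δ`. -/
noncomputable def expo {N δ : ℕ} (s : Fin N → Fin (δ + 1)) : Fin N →₀ ℕ :=
  Finsupp.equivFunOnFinite.symm fun i => (s i : ℕ)

theorem expo_injective {N δ : ℕ} : Function.Injective (expo (N := N) (δ := δ)) := fun s t h =>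
  funext fun i => Fin.ext (congrFun (Finsupp.equivFunOnFinite.symm.injective h) i)

/-- The polynomial with given coefficients in the box of exponents `≤ δ`. -/
noncomputable def upoly {R : Type*} [CommRing R] {N δ : ℕ} (c : (Fin N → Fin (δ + 1)) → R) :
    MvPolynomial (Fin N) R :=
  ∑ s, monomial (expo s) (c s)

theorem map_upoly {R R' : Type*} [CommRing R] [CommRing R'] (φ : R →+* R') {N δ : ℕ}
    (c : (Fin N → Fin (δ + 1)) → R) : MvPolynomial.map φ (upoly c) = upoly fun s => φ (c s) := by
  simp [upoly, map_sum]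

theorem eq_upoly {R : Type*} [CommRing R] {N δ : ℕ} {p : MvPolynomial (Fin N) R}
    (hp : p.totalDegree ≤ δ) : upoly (δ := δ) (fun s => p.coeff (expo s)) = p := by
  classical
  conv_rhs => rw [p.as_sum]
  unfold upoly
  rw [← Finset.sum_image (g := expo) (f := fun m => monomial m (p.coeff m))
    (fun _ _ _ _ h => expo_injective h)]
  refine (Finset.sum_subset ?_ fun m _ hm => ?_).symm
  · intro m hm
    have hle : ∀ i, m i ≤ δ := fun i => by
      refine le_trans ?_ ((le_totalDegree hm).trans hp)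
      by_cases hi : i ∈ m.support
      · exact Finset.single_le_sum (f := fun i => m i) (fun j _ => Nat.zero_le _) hi
      · rw [Finsupp.notMem_support_iff.1 hi]; exact Nat.zero_le _
    exact Finset.mem_image.2 ⟨fun i => ⟨m i, Nat.lt_succ_of_le (hle i)⟩, Finset.mem_univ _,
      Finsupp.ext fun i => rfl⟩
  · rw [MvPolynomial.notMem_support_iff.1 hm, monomial_zero]

theorem totalDegree_map_le {R R' : Type*} [CommRing R] [CommRing R'] (φ : R →+* R') {N : ℕ}
    (p : MvPolynomial (Fin N) R) : (MvPolynomial.map φ p).totalDegree ≤ p.totalDegree :=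
  Finset.sup_mono (support_map_subset φ p)

/-- **Uniform bound for syzygies**: over every field, the kernel of an `a × b` matrix of polynomials
of degree at most `δ` is generated by vectors of bounded degree. -/
theorem exists_syzygy_bound (N a b δ : ℕ) :
    ∃ D : ℕ, ∀ (k : Type u) [Field k] (M : Fin b → Fin a → MvPolynomial (Fin N) k),
      (∀ i j, (M i j).totalDegree ≤ δ) →
        ∀ x : Fin a → MvPolynomial (Fin N) k, (∀ i, ∑ j, M i j * x j = 0) →
          x ∈ Submodule.span (MvPolynomial (Fin N) k)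
            {v : Fin a → MvPolynomial (Fin N) k |
              (∀ i, ∑ j, M i j * v j = 0) ∧ ∀ j, (v j).totalDegree ≤ D} := by
  classical
  let ι := Fin b × Fin a × (Fin N → Fin (δ + 1))
  let A₀ := MvPolynomial ι ℤ
  let U : Fin b → Fin a → MvPolynomial (Fin N) A₀ := fun i j => upoly fun s => X (i, j, s)
  let Good : ∀ (k : Type u) [Field k], (A₀ →+* k) → ℕ → Prop := fun k _ φ D =>
    ∀ x : Fin a → MvPolynomial (Fin N) k, (∀ i, ∑ j, MvPolynomial.map φ (U i j) * x j = 0) →
      x ∈ Submodule.span (MvPolynomial (Fin N) k)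
        {v : Fin a → MvPolynomial (Fin N) k |
          (∀ i, ∑ j, MvPolynomial.map φ (U i j) * v j = 0) ∧ ∀ j, (v j).totalDegree ≤ D}
  obtain ⟨D, hD⟩ : ∃ D : ℕ, ∀ (k : Type u) [Field k] (φ : A₀ →+* k), Good k φ D := by
    refine exists_bound_of_generic Good (fun k _ φ D D' hDD h x hx => ?_) fun P hP => ?_
    · refine Submodule.span_mono ?_ (h x hx)
      exact fun v hv => ⟨hv.1, fun j => (hv.2 j).trans hDD⟩
    obtain ⟨f, V, hf, hV, hgen⟩ := exists_generic_syzygies.{0, u}
      (fun i j => MvPolynomial.map (Ideal.Quotient.mk P) (U i j))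
    refine ⟨f, hf, V.sup fun v => Finset.univ.sup fun j => (v j).totalDegree, fun k _ ψ hψ x hx => ?_⟩
    have := hgen k ψ (Ne.isUnit hψ) x (fun i => by simpa [MvPolynomial.map_map] using hx i)
    refine Submodule.span_mono ?_ this
    rintro _ ⟨v, hv, rfl⟩
    refine ⟨fun i => ?_, fun j => ?_⟩
    · have h1 := congrArg (MvPolynomial.map ψ) (hV v hv i)
      simpa [spec, map_sum, MvPolynomial.map_map] using h1
    · exact (totalDegree_map_le ψ (v j)).trans (le_trans
        (Finset.le_sup (f := fun j => (v j).totalDegree) (Finset.mem_univ j))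
        (Finset.le_sup (f := fun v => Finset.univ.sup fun j => (v j).totalDegree) hv))
  refine ⟨D, fun k _ M hM x hx => ?_⟩
  let φ : A₀ →+* k := eval₂Hom (Int.castRingHom k) fun p => (M p.1 p.2.1).coeff (expo p.2.2)
  have hU : ∀ i j, MvPolynomial.map φ (U i j) = M i j := fun i j => by
    rw [map_upoly]
    conv_rhs => rw [← eq_upoly (hM i j)]
    congr 1
    funext s
    exact eval₂Hom_X' _ _ _
  have := hD k φ x (fun i => by simp only [hU]; exact hx i)
  simp only [hU] at this
  exact this

end Groth.Calg2.Uniform
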