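import Groth.Agent.FlatmorThree.GenericSmooth
import Groth.Agent.Calg4.SmoothReduced
import Mathlib.RingTheory.FinitePresentation
import Mathlib.RingTheory.Smooth.Basic
import Mathlib.Algebra.MvPolynomial.Rename

/-!
# Certificates for radicals

`Cert F G b` says, by polynomial identities only, that `G` and `F` generate ideals with the same
radical and that `R[T]/(G)` is formally smooth after inverting `b`. It is stable under every base
change; over a field, if moreover `b` is regular modulo `G`, it gives `rad (F) = (G)`.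
-/

universe u v

namespace Groth.Calg2.Uniform

open MvPolynomial

variable {N c s : ℕ}

/-- Generators of the ideal of `D(b)` inside affine `N+1` space. -/
noncomputable def gensAway {R : Type*} [CommRing R] (G : Fin s → MvPolynomial (Fin N) R)
    (b : MvPolynomial (Fin N) R) : Option (Fin s) → MvPolynomial (Option (Fin N)) R :=
  fun o => o.elim (X none * rename some b - 1) fun i => rename some (G i)

theorem gensAway_map {R R' : Type*} [CommRing R] [CommRing R'] (φ : R →+* R')
    (G : Fin s → MvPolynomial (Fin N) R) (b : MvPolynomial (Fin N) R) (o : Option (Fin s)) :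
    gensAway (fun i => MvPolynomial.map φ (G i)) (MvPolynomial.map φ b) o =
      MvPolynomial.map φ (gensAway G b o) := by
  cases o <;> simp [gensAway, map_rename]

theorem span_sq {R : Type*} [CommRing R] {ι : Type*} (H : ι → R) :
    Ideal.span (Set.range H) ^ 2 = Ideal.span (Set.range fun p : ι × ι => H p.1 * H p.2) := by
  rw [show (2 : ℕ) = 1 + 1 from rfl, Submodule.pow_succ, Submodule.pow_one, Ideal.span_mul_span']
  congr 1
  ext x
  constructor
  · rintro ⟨_, ⟨i, rfl⟩, _, ⟨j, rfl⟩, rfl⟩
    exact ⟨(i, j), rfl⟩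
  · rintro ⟨⟨i, j⟩, rfl⟩
    exact ⟨_, ⟨i, rfl⟩, _, ⟨j, rfl⟩, rfl⟩

/-- The certificate. -/
structure Cert {R : Type*} [CommRing R] (F : Fin c → MvPolynomial (Fin N) R)
    (G : Fin s → MvPolynomial (Fin N) R) (b : MvPolynomial (Fin N) R) (e : Fin s → ℕ)
    (t : Option (Fin N) → MvPolynomial (Option (Fin N)) R) : Prop where
  mem : ∀ j, F j ∈ Ideal.span (Set.range G)
  pow_mem : ∀ i, G i ^ e i ∈ Ideal.span (Set.range F)
  aeval_mem : ∀ o, aeval t (gensAway G b o) ∈
    Ideal.span (Set.range fun p : Option (Fin s) × Option (Fin s) => gensAway G b p.1 * gensAway G b p.2)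
  sub_mem : ∀ o, t o - X o ∈ Ideal.span (Set.range (gensAway G b))

theorem map_mem_span {R R' : Type*} [CommRing R] [CommRing R'] (φ : R →+* R') {ι : Type*}
    {H : ι → R} {x : R} (h : x ∈ Ideal.span (Set.range H)) :
    φ x ∈ Ideal.span (Set.range fun i => φ (H i)) := by
  have := Ideal.mem_map_of_mem φ h
  rwa [Ideal.map_span, ← Set.range_comp] at this

theorem Cert.map {R R' : Type*} [CommRing R] [CommRing R'] (φ : R →+* R')
    {F : Fin c → MvPolynomial (Fin N) R} {G : Fin s → MvPolynomial (Fin N) R}
    {b : MvPolynomial (Fin N) R} {e : Fin s → ℕ} {t : Option (Fin N) → MvPolynomial (Option (Fin N)) R}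
    (h : Cert F G b e t) :
    Cert (fun j => MvPolynomial.map φ (F j)) (fun i => MvPolynomial.map φ (G i))
      (MvPolynomial.map φ b) e (fun o => MvPolynomial.map φ (t o)) := by
  refine ⟨fun j => map_mem_span _ (h.mem j), fun i => ?_, fun o => ?_, fun o => ?_⟩
  · rw [← map_pow]; exact map_mem_span _ (h.pow_mem i)
  · simp only [gensAway_map, ← map_mul]
    have h1 := map_mem_span (MvPolynomial.map φ) (h.aeval_mem o)
    have h2 : (aeval fun o => MvPolynomial.map φ (t o)).toRingHom.comp (MvPolynomial.map φ) =
        (MvPolynomial.map φ).comp (aeval t).toRingHom :=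
      MvPolynomial.ringHom_ext (fun r => by simp) fun i => by simp
    have h3 := DFunLike.congr_fun h2 (gensAway G b o)
    simp only [RingHom.comp_apply, AlgHom.toRingHom_eq_coe, RingHom.coe_coe] at h3
    rw [h3]
    exact h1
  · simp only [← map_X φ, ← map_sub, funext (gensAway_map φ G b)]
    exact map_mem_span (MvPolynomial.map φ) (h.sub_mem o)

/-- Over a field, the certificate and regularity of `b` give the radical. -/
theorem Cert.radical_eq {L : Type u} [Field L] {F : Fin c → MvPolynomial (Fin N) L}
    {G : Fin s → MvPolynomial (Fin N) L} {b : MvPolynomial (Fin N) L} {e : Fin s → ℕ}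
    {t : Option (Fin N) → MvPolynomial (Option (Fin N)) L} (h : Cert F G b e t)
    (hb : ∀ z, b * z ∈ Ideal.span (Set.range G) → z ∈ Ideal.span (Set.range G)) :
    (Ideal.span (Set.range F)).radical = Ideal.span (Set.range G) := by
  let J := Ideal.span (Set.range G)
  let I : Ideal (MvPolynomial (Option (Fin N)) L) := Ideal.span (Set.range (gensAway G b))
  let P := MvPolynomial (Option (Fin N)) L
  -- `P / I` is smooth, hence reduced
  let f : P →ₐ[L] P ⧸ I := Ideal.Quotient.mkₐ L I
  have hker : RingHom.ker f.toRingHom = I := Ideal.Quotient.mkₐ_ker L I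
  let g₀ : P →ₐ[L] P ⧸ RingHom.ker f.toRingHom ^ 2 := (Ideal.Quotient.mkₐ L _).comp (aeval t)
  have hg₀ : ∀ a : P, a ∈ I → g₀ a = 0 := by
    intro a ha
    induction ha using Submodule.span_induction with
    | mem x hx =>
      obtain ⟨o, rfl⟩ := hx
      change Ideal.Quotient.mk _ (aeval t (gensAway G b o)) = 0
      rw [Ideal.Quotient.eq_zero_iff_mem, hker, span_sq]
      exact h.aeval_mem o
    | zero => exact map_zero _
    | add x y _ _ hx hy => rw [map_add, hx, hy, add_zero]
    | smul a x _ hx => rw [smul_eq_mul, map_mul, hx, mul_zero]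
  have : Algebra.FormallySmooth L (P ⧸ I) :=
    Algebra.FormallySmooth.of_split f (Ideal.Quotient.liftₐ I g₀ hg₀) (Ideal.Quotient.algHom_ext _
      (MvPolynomial.algHom_ext fun o => by
        change Ideal.Quotient.mk I (aeval t (X o)) = Ideal.Quotient.mk I (X o)
        rw [aeval_X, Ideal.Quotient.eq]
        exact h.sub_mem o))
  have : Algebra.Smooth L (P ⧸ I) :=
    ⟨inferInstance, Algebra.FinitePresentation.of_finiteType.1 inferInstance⟩
  have hred : IsReduced (P ⧸ I) := Groth.Calg4.isReduced_of_smooth_field L (P ⧸ I)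
  -- `J` is radical
  have hJ : J.IsRadical := by
    intro z hz
    obtain ⟨n, hn⟩ := hz
    have hzI : rename some z ∈ I := by
      rw [← Ideal.Quotient.eq_zero_iff_mem]
      refine hred.eq_zero _ ⟨n, ?_⟩
      rw [← map_pow, ← map_pow, Ideal.Quotient.eq_zero_iff_mem]
      have := map_mem_span (rename (some : Fin N → Option (Fin N)) : MvPolynomial (Fin N) L →ₐ[L] P).toRingHom hn
      refine Ideal.span_mono ?_ this
      rintro _ ⟨i, rfl⟩
      exact ⟨some i, rfl⟩
    let bb : MvPolynomial (Fin N) L ⧸ J := Ideal.Quotient.mk J b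
    let Q := Localization.Away bb
    let ρ : P →ₐ[L] Q := aeval fun o => o.elim (IsLocalization.Away.invSelf bb)
      fun i => algebraMap _ Q (Ideal.Quotient.mk J (X i))
    have hρ : ∀ p : MvPolynomial (Fin N) L, ρ (rename some p) = algebraMap _ Q (Ideal.Quotient.mk J p) := by
      have : ρ.comp (rename some) =
          (IsScalarTower.toAlgHom L (MvPolynomial (Fin N) L ⧸ J) Q).comp (Ideal.Quotient.mkₐ L J) :=
        MvPolynomial.algHom_ext fun i => by
          rw [AlgHom.comp_apply, show rename some (X i) = (X (some i) : P) from rename_X _ _, aeval_X]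
          rfl
      exact DFunLike.congr_fun this
    have hρI : ρ (rename some z) = 0 := by
      suffices ∀ x ∈ I, ρ x = 0 from this _ hzI
      intro x hxI
      induction hxI using Submodule.span_induction with
      | mem x hx =>
        obtain ⟨o, rfl⟩ := hx
        cases o with
        | none =>
          change ρ (X none * rename some b - 1) = 0
          rw [map_sub, map_mul, map_one, hρ, aeval_X]
          simp only [Option.elim_none]
          rw [mul_comm, IsLocalization.Away.mul_invSelf, sub_self]
        | some i =>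
          change ρ (rename some (G i)) = 0
          rw [hρ, Ideal.Quotient.eq_zero_iff_mem.2 (Ideal.subset_span (Set.mem_range_self i)), map_zero]
      | zero => exact map_zero _
      | add x y _ _ hx hy => rw [map_add, hx, hy, add_zero]
      | smul a x _ hx => rw [smul_eq_mul, map_mul, hx, mul_zero]
    rw [hρ, IsLocalization.map_eq_zero_iff (Submonoid.powers bb)] at hρI
    obtain ⟨⟨_, m, rfl⟩, hm⟩ := hρI
    change bb ^ m * Ideal.Quotient.mk J z = 0 at hm
    rw [← map_pow, ← map_mul, Ideal.Quotient.eq_zero_iff_mem] at hm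
    clear * - hb hm
    induction m with
    | zero => simpa using hm
    | succ m ih => exact ih (hb _ (by rwa [pow_succ', mul_assoc] at hm))
  refine le_antisymm (hJ.radical_le_iff.2 (Ideal.span_le.2 ?_)) (Ideal.span_le.2 ?_)
  · rintro _ ⟨j, rfl⟩; exact h.mem j
  · rintro _ ⟨i, rfl⟩; exact ⟨e i, h.pow_mem i⟩

/-- Over an algebraically closed field every finite family has a certificate. -/
theorem exists_cert {K : Type u} [Field K] [PerfectField K] (F : Fin c → MvPolynomial (Fin N) K) :
    ∃ (s : ℕ) (G : Fin s → MvPolynomial (Fin N) K) (b : MvPolynomial (Fin N) K) (e : Fin s → ℕ)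
      (t : Option (Fin N) → MvPolynomial (Option (Fin N)) K), Cert F G b e t ∧
        ∀ z, b * z ∈ Ideal.span (Set.range G) → z ∈ Ideal.span (Set.range G) := by
  classical
  let J := (Ideal.span (Set.range F)).radical
  obtain ⟨V, hV⟩ : J.FG := IsNoetherian.noetherian J
  let G : Fin V.card → MvPolynomial (Fin N) K := fun i => (V.equivFin.symm i).1
  have hG : Ideal.span (Set.range G) = J := by
    refine Eq.trans ?_ hV
    congr 1
    ext x
    exact ⟨fun ⟨i, hi⟩ => hi ▸ (V.equivFin.symm i).2, fun hx => ⟨V.equivFin ⟨x, hx⟩, by simp [G]⟩⟩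
  have he : ∀ i, ∃ n, G i ^ n ∈ Ideal.span (Set.range F) := fun i => by
    have : G i ∈ J := hG ▸ Ideal.subset_span (Set.mem_range_self i)
    exact this
  choose e he using he
  let C := MvPolynomial (Fin N) K ⧸ J
  have : IsReduced C := (Ideal.isRadical_iff_quotient_reduced J).1 (Ideal.radical_isRadical _)
  obtain ⟨β, hβ, _⟩ := FlatmorThree.GenericSmooth.exists_smooth_away (P := K) (B := C)
  obtain ⟨b, rfl⟩ := Ideal.Quotient.mk_surjective β
  let P := MvPolynomial (Option (Fin N)) K
  let I : Ideal P := Ideal.span (Set.range (gensAway G b))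
  let bb : C := Ideal.Quotient.mk J b
  let Q := Localization.Away bb
  -- `C → P / I`
  let ι₀ : C →ₐ[K] P ⧸ I := Ideal.Quotient.liftₐ J ((Ideal.Quotient.mkₐ K I).comp (rename some)) (by
    intro a ha
    rw [← hG] at ha
    induction ha using Submodule.span_induction with
    | mem x hx =>
      obtain ⟨i, rfl⟩ := hx
      exact Ideal.Quotient.eq_zero_iff_mem.2 (Ideal.subset_span ⟨some i, rfl⟩)
    | zero => exact map_zero _
    | add x y _ _ hx hy => rw [map_add, hx, hy, add_zero]
    | smul a x _ hx => rw [smul_eq_mul, map_mul, hx, mul_zero])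
  have hYb : Ideal.Quotient.mk I (X none) * Ideal.Quotient.mk I (rename some b) = 1 := by
    rw [← map_mul, ← map_one (Ideal.Quotient.mk I), Ideal.Quotient.eq]
    exact Ideal.subset_span ⟨none, rfl⟩
  let ι : Q →ₐ[K] P ⧸ I := IsLocalization.liftAlgHom (M := Submonoid.powers bb) (f := ι₀) (by
    rintro ⟨_, n, rfl⟩
    rw [map_pow]
    exact (IsUnit.of_mul_eq_one_right _ hYb).pow n)
  let π : P →ₐ[K] Q := aeval fun o => o.elim (IsLocalization.Away.invSelf bb)
    fun i => algebraMap C Q (Ideal.Quotient.mk J (X i))
  have hιπ : ∀ o, ι (π (X o)) = Ideal.Quotient.mk I (X o) := by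
    intro o
    rw [aeval_X]
    cases o with
    | none =>
      have h1 : ι (algebraMap C Q bb) = Ideal.Quotient.mk I (rename some b) :=
        IsLocalization.lift_eq _ _
      have h2 := congrArg ι (IsLocalization.Away.mul_invSelf (S := Q) bb)
      rw [map_mul, map_one, h1] at h2
      change ι (IsLocalization.Away.invSelf bb) = _
      calc ι (IsLocalization.Away.invSelf bb)
          = (Ideal.Quotient.mk I (X none) * Ideal.Quotient.mk I (rename some b)) *
              ι (IsLocalization.Away.invSelf bb) := by rw [hYb, one_mul]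
        _ = Ideal.Quotient.mk I (X none) := by rw [mul_assoc, h2, mul_one]
    | some i =>
      refine (IsLocalization.lift_eq _ _).trans ?_
      change Ideal.Quotient.mk I (rename some (X i)) = _
      rw [rename_X]
  let g : P ⧸ I ^ 2 →ₐ[K] P ⧸ I :=
    Ideal.Quotient.factorₐ K (Ideal.pow_le_self two_ne_zero)
  have hgsurj : Function.Surjective g := fun x => by
    obtain ⟨y, rfl⟩ := Ideal.Quotient.mk_surjective x
    exact ⟨Ideal.Quotient.mk _ y, rfl⟩
  have hgnil : IsNilpotent (RingHom.ker (g : P ⧸ I ^ 2 →+* P ⧸ I)) := by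
    refine ⟨2, ?_⟩
    have : RingHom.ker (g : P ⧸ I ^ 2 →+* P ⧸ I) ≤ I.map (Ideal.Quotient.mk (I ^ 2)) := by
      intro x hx
      obtain ⟨y, rfl⟩ := Ideal.Quotient.mk_surjective x
      exact Ideal.mem_map_of_mem _ (Ideal.Quotient.eq_zero_iff_mem.1 hx)
    rw [Ideal.zero_eq_bot, eq_bot_iff]
    refine (Ideal.pow_right_mono this 2).trans ?_
    rw [← Ideal.map_pow, Ideal.map_quotient_self]
  let σ : Q →ₐ[K] P ⧸ I ^ 2 := Algebra.FormallySmooth.liftOfSurjective ι g hgsurj hgnil
  choose t ht using fun o => Ideal.Quotient.mk_surjective (σ (π (X o)))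
  have hts : ∀ p, Ideal.Quotient.mk (I ^ 2) (aeval t p) = σ (π p) := by
    have : (Ideal.Quotient.mkₐ K (I ^ 2)).comp (aeval t) = σ.comp π :=
      MvPolynomial.algHom_ext fun o => by simp [ht]
    exact DFunLike.congr_fun this
  refine ⟨V.card, G, b, e, t, ⟨fun j => hG ▸ Ideal.le_radical (Ideal.subset_span (Set.mem_range_self j)),
    he, fun o => ?_, fun o => ?_⟩, fun z hz => ?_⟩
  · rw [← span_sq, ← Ideal.Quotient.eq_zero_iff_mem, hts]
    have hπrs : ∀ p : MvPolynomial (Fin N) K, π (rename some p) = algebraMap C Q (Ideal.Quotient.mk J p) := by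
      have : π.comp (rename some) = (IsScalarTower.toAlgHom K C Q).comp (Ideal.Quotient.mkₐ K J) :=
        MvPolynomial.algHom_ext fun i => by
          rw [AlgHom.comp_apply, show rename some (X i) = (X (some i) : P) from rename_X _ _, aeval_X]
          rfl
      exact DFunLike.congr_fun this
    suffices π (gensAway G b o) = 0 by rw [this, map_zero]
    cases o with
    | none =>
      change π (X none * rename some b - 1) = 0
      rw [map_sub, map_mul, map_one, hπrs, aeval_X]
      simp only [Option.elim_none]
      rw [mul_comm, IsLocalization.Away.mul_invSelf, sub_self]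
    | some i =>
      change π (rename some (G i)) = 0
      rw [hπrs, Ideal.Quotient.eq_zero_iff_mem.2 (hG ▸ Ideal.subset_span (Set.mem_range_self i)), map_zero]
  · rw [← Ideal.Quotient.eq]
    have h1 := Algebra.FormallySmooth.liftOfSurjective_apply ι g hgsurj hgnil (π (X o))
    rw [hιπ] at h1
    change g (σ (π (X o))) = _ at h1
    rw [← ht] at h1
    exact h1
  · rw [hG, ← Ideal.Quotient.eq_zero_iff_mem]
    rw [hG, ← Ideal.Quotient.eq_zero_iff_mem, map_mul] at hz
    exact FlatmorThree.GenericSmooth.eq_zero_of_mul_eq_zero hβ hz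

end Groth.Calg2.Uniform
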