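import Groth.Agent.Calg2.Uniform.Bounds
import Mathlib.LinearAlgebra.FiniteDimensional.Basic

/-!
# Coordinates of `L[T]` over `k[T]`, and contraction of ideals of bounded degree
-/

universe u v

namespace Groth.Calg2.Uniform

open MvPolynomial

variable {k : Type u} [CommRing k] {L : Type v} [CommRing L] [Algebra k L] {σ ι : Type*}

/-- The `l`-th coordinate of a polynomial over `L`. -/
noncomputable def coord (ω : Module.Basis ι k L) (l : ι) (p : MvPolynomial σ L) : MvPolynomial σ k :=
  ∑ m ∈ p.support, monomial m (ω.repr (p.coeff m) l)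

theorem coeff_coord (ω : Module.Basis ι k L) (l : ι) (p : MvPolynomial σ L) (m : σ →₀ ℕ) :
    (coord ω l p).coeff m = ω.repr (p.coeff m) l := by
  classical
  simp only [coord, coeff_sum, coeff_monomial, Finset.sum_ite_eq']
  split_ifs with h
  · rfl
  · rw [notMem_support_iff.1 h]; simp

theorem coord_add (ω : Module.Basis ι k L) (l : ι) (p q : MvPolynomial σ L) :
    coord ω l (p + q) = coord ω l p + coord ω l q := by
  ext m; simp [coeff_coord]

theorem coord_zero (ω : Module.Basis ι k L) (l : ι) : coord ω l (0 : MvPolynomial σ L) = 0 := by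
  ext m; simp [coeff_coord]

theorem coord_sum {α : Type*} (ω : Module.Basis ι k L) (l : ι) (s : Finset α)
    (f : α → MvPolynomial σ L) : coord ω l (∑ a ∈ s, f a) = ∑ a ∈ s, coord ω l (f a) := by
  classical
  induction s using Finset.induction_on with
  | empty => simp [coord_zero]
  | insert a s ha ih => rw [Finset.sum_insert ha, Finset.sum_insert ha, coord_add, ih]

theorem coord_map_mul (ω : Module.Basis ι k L) (l : ι) (q : MvPolynomial σ k) (p : MvPolynomial σ L) :
    coord ω l (MvPolynomial.map (algebraMap k L) q * p) = q * coord ω l p := by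
  classical
  ext m
  simp only [coeff_coord, coeff_mul, coeff_map, map_sum, Finsupp.finsetSum_apply]
  refine Finset.sum_congr rfl fun x _ => ?_
  rw [← Algebra.smul_def, map_smul, Finsupp.smul_apply, smul_eq_mul]

theorem totalDegree_coord_le (ω : Module.Basis ι k L) (l : ι) (p : MvPolynomial σ L) :
    (coord ω l p).totalDegree ≤ p.totalDegree := by
  refine Finset.sup_mono fun m hm => ?_
  rw [mem_support_iff, coeff_coord] at hm
  rw [mem_support_iff]
  intro h; simp [h] at hm

theorem ext_coord [Fintype ι] (ω : Module.Basis ι k L) (p : MvPolynomial σ L) :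
    ∑ l, C (ω l) * MvPolynomial.map (algebraMap k L) (coord ω l p) = p := by
  ext m
  simp only [coeff_sum, coeff_C_mul, coeff_map, coeff_coord]
  conv_rhs => rw [← ω.sum_repr (p.coeff m)]
  refine Finset.sum_congr rfl fun l _ => ?_
  rw [Algebra.smul_def, mul_comm]

/-- An extension of fields is faithfully flat on polynomial rings. -/
theorem comap_span_map {k : Type u} [Field k] {L : Type v} [Field L] [Algebra k L]
    [FiniteDimensional k L] {N c : ℕ} (F : Fin c → MvPolynomial (Fin N) k) :
    (Ideal.span (Set.range fun j => MvPolynomial.map (algebraMap k L) (F j))).comap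
      (MvPolynomial.map (algebraMap k L)) = Ideal.span (Set.range F) := by
  refine le_antisymm (fun z hz => ?_) (Ideal.span_le.2 ?_)
  · let ω := Module.finBasis k L
    obtain ⟨l, hl⟩ : ∃ l, ω.repr (1 : L) l ≠ 0 := by
      by_contra h
      push Not at h
      have h1 : ω.repr (1 : L) = 0 := Finsupp.ext h
      exact one_ne_zero ((map_eq_zero_iff _ ω.repr.injective).1 h1)
    obtain ⟨d, hd⟩ := (Ideal.mem_span_range_iff_exists_fun).1 hz
    have h1 : z * C (ω.repr (1 : L) l) = ∑ j, F j * coord ω l (d j) := by
      have : coord ω l (MvPolynomial.map (algebraMap k L) z) = z * C (ω.repr (1 : L) l) := by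
        conv_lhs => rw [← mul_one (MvPolynomial.map (algebraMap k L) z)]
        rw [coord_map_mul]
        congr 1
        ext m
        classical
        rw [coeff_coord, coeff_one, coeff_C]
        split_ifs <;> simp
      rw [← this, ← hd, coord_sum]
      refine Finset.sum_congr rfl fun j _ => ?_
      rw [mul_comm, coord_map_mul]
    have h2 : z * C (ω.repr (1 : L) l) ∈ Ideal.span (Set.range F) := h1 ▸
      Ideal.sum_mem _ fun j _ => Ideal.mul_mem_right _ _ (Ideal.subset_span (Set.mem_range_self j))
    exact (Ideal.mul_unit_mem_iff_mem _ ((Ne.isUnit hl).map C)).1 h2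
  · rintro _ ⟨j, rfl⟩
    exact Ideal.subset_span ⟨j, rfl⟩

theorem exists_contraction_bound (N s r D₀ : ℕ) :
    ∃ D : ℕ, ∀ (k : Type u) [Field k] (L : Type u) [Field L] [Algebra k L] [FiniteDimensional k L],
      Module.finrank k L = r → ∀ G : Fin s → MvPolynomial (Fin N) L, (∀ i, (G i).totalDegree ≤ D₀) →
        (Ideal.span (Set.range G)).comap (MvPolynomial.map (algebraMap k L)) =
          Ideal.span {z | MvPolynomial.map (algebraMap k L) z ∈ Ideal.span (Set.range G) ∧
            z.totalDegree ≤ D} := by
  classical
  let κ := Option (Fin s × Fin r)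
  let e : Fin (Fintype.card κ) ≃ κ := (Fintype.equivFin κ).symm
  obtain ⟨D, hD⟩ := exists_syzygy_bound.{u} N (Fintype.card κ) r D₀
  refine ⟨D, fun k _ L _ _ _ hr G hG => le_antisymm (fun z hz => ?_) (Ideal.span_le.2 fun z hz => hz.1)⟩
  let ω : Module.Basis (Fin r) k L := (Module.finBasis k L).reindex (finCongr hr)
  let M' : Fin r → κ → MvPolynomial (Fin N) k := fun l o =>
    o.elim (coord ω l 1) fun p => coord ω l (C (ω p.2) * G p.1)
  have hdeg : ∀ l j, (M' l (e j)).totalDegree ≤ D₀ := fun l j => by
    change ((e j).elim (coord ω l 1) fun p => coord ω l (C (ω p.2) * G p.1)).totalDegree ≤ D₀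
    cases e j with
    | none => exact (totalDegree_coord_le ω l 1).trans (by rw [totalDegree_one]; exact Nat.zero_le _)
    | some p =>
      refine (totalDegree_coord_le ω l _).trans ((totalDegree_mul _ _).trans ?_)
      rw [totalDegree_C, zero_add]
      exact hG p.1
  obtain ⟨d, hd⟩ := (Ideal.mem_span_range_iff_exists_fun).1 (Ideal.mem_comap.1 hz)
  let x' : κ → MvPolynomial (Fin N) k := fun o => o.elim z fun p => - coord ω p.2 (d p.1)
  have hsum : ∀ (v : κ → MvPolynomial (Fin N) k) (l : Fin r),
      ∑ j, M' l (e j) * v (e j) =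
        coord ω l (MvPolynomial.map (algebraMap k L) (v none) +
          ∑ i, (∑ q, C (ω q) * MvPolynomial.map (algebraMap k L) (v (some (i, q)))) * G i) := by
    intro v l
    rw [e.sum_comp fun o => M' l o * v o, Fintype.sum_option, coord_add, coord_sum,
      Fintype.sum_prod_type]
    congr 1
    · conv_rhs => rw [← mul_one (MvPolynomial.map (algebraMap k L) (v none))]
      rw [coord_map_mul, mul_comm]
      rfl
    · refine Finset.sum_congr rfl fun i _ => ?_
      rw [Finset.sum_mul, coord_sum]
      refine Finset.sum_congr rfl fun q _ => ?_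
      rw [show C (ω q) * MvPolynomial.map (algebraMap k L) (v (some (i, q))) * G i =
        MvPolynomial.map (algebraMap k L) (v (some (i, q))) * (C (ω q) * G i) by ring, coord_map_mul,
        mul_comm]
      rfl
  have hx : ∀ l, ∑ j, M' l (e j) * x' (e j) = 0 := by
    intro l
    rw [hsum]
    have : MvPolynomial.map (algebraMap k L) (x' none) +
        ∑ i, (∑ q, C (ω q) * MvPolynomial.map (algebraMap k L) (x' (some (i, q)))) * G i = 0 := by
      simp only [x', Option.elim_none, Option.elim_some, map_neg, mul_neg, Finset.sum_neg_distrib,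
        neg_mul, ext_coord]
      rw [hd, add_neg_cancel]
    rw [this, coord_zero]
  have hmem := hD k (fun l j => M' l (e j)) hdeg (fun j => x' (e j)) hx
  suffices ∀ v : Fin (Fintype.card κ) → MvPolynomial (Fin N) k,
      v ∈ Submodule.span (MvPolynomial (Fin N) k)
        {v : Fin (Fintype.card κ) → MvPolynomial (Fin N) k |
          (∀ l, ∑ j, M' l (e j) * v j = 0) ∧ ∀ j, (v j).totalDegree ≤ D} →
      v (e.symm none) ∈ Ideal.span {z | MvPolynomial.map (algebraMap k L) z ∈ Ideal.span (Set.range G) ∧
            z.totalDegree ≤ D} by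
    simpa [x'] using this _ hmem
  intro v hv
  induction hv using Submodule.span_induction with
  | mem v hv =>
    refine Ideal.subset_span ⟨?_, hv.2 _⟩
    let v' : κ → MvPolynomial (Fin N) k := fun o => v (e.symm o)
    have h0 : MvPolynomial.map (algebraMap k L) (v' none) +
        ∑ i, (∑ q, C (ω q) * MvPolynomial.map (algebraMap k L) (v' (some (i, q)))) * G i = 0 := by
      rw [← ext_coord ω (_ + _)]
      refine Finset.sum_eq_zero fun l _ => ?_
      rw [← hsum v' l]
      simp only [v', Equiv.symm_apply_apply]
      rw [hv.1 l, map_zero, mul_zero]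
    change MvPolynomial.map (algebraMap k L) (v' none) ∈ _
    rw [eq_neg_of_add_eq_zero_left h0]
    exact neg_mem (Ideal.sum_mem _ fun i _ => Ideal.mul_mem_left _ _ (Ideal.subset_span (Set.mem_range_self i)))
  | zero => exact zero_mem _
  | add v w _ _ hv hw => exact add_mem hv hw
  | smul a v _ hv => exact Ideal.mul_mem_left _ a hv

end Groth.Calg2.Uniform
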