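import Groth.Agent.Calg2.Uniform.Radical
import Groth.Agent.GenericFree.Presentation
import Mathlib.RingTheory.Nullstellensatz
import Mathlib.Algebra.MvPolynomial.Eval

/-!
# Reduced fibres: dichotomy at the generic point, in polynomial rings
-/

universe u v w

namespace Groth.Calg2.Uniform

open MvPolynomial

variable {σ : Type*}

/-- Field extensions are faithfully flat on ideals of polynomial rings. -/
theorem comap_map_eq {k : Type u} [Field k] {L : Type v} [Field L] (h : k →+* L)
    (J : Ideal (MvPolynomial σ k)) : (J.map (MvPolynomial.map h)).comap (MvPolynomial.map h) = J := by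
  classical
  algebraize [h]
  refine le_antisymm (fun z hz => ?_) Ideal.le_comap_map
  let ω := Module.Free.chooseBasis k L
  obtain ⟨l, hl⟩ : ∃ l, ω.repr (1 : L) l ≠ 0 := by
    by_contra h'
    push Not at h'
    exact one_ne_zero ((map_eq_zero_iff _ ω.repr.injective).1 (Finsupp.ext h'))
  suffices ∀ y ∈ J.map (MvPolynomial.map h), ∀ c : MvPolynomial σ L, coord ω l (c * y) ∈ J by
    have h1 := this _ (Ideal.mem_comap.1 hz) 1
    rw [one_mul, ← mul_one (MvPolynomial.map h z)] at h1
    change coord ω l (MvPolynomial.map (algebraMap k L) z * 1) ∈ J at h1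
    rw [coord_map_mul, show coord ω l (1 : MvPolynomial σ L) = C (ω.repr (1 : L) l) from ?_] at h1
    · exact (Ideal.mul_unit_mem_iff_mem _ ((Ne.isUnit hl).map C)).1 h1
    · ext m
      rw [coeff_coord, coeff_one, coeff_C]
      split_ifs <;> simp
  intro y hy
  induction hy using Submodule.span_induction with
  | mem y hy =>
    intro c
    obtain ⟨q, hq, rfl⟩ := hy
    rw [mul_comm]
    change coord ω l (MvPolynomial.map (algebraMap k L) q * c) ∈ J
    rw [coord_map_mul]
    exact J.mul_mem_right _ hq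
  | zero => intro c; rw [mul_zero, coord_zero]; exact J.zero_mem
  | add y y' _ _ h1 h2 => intro c; rw [mul_add, coord_add]; exact J.add_mem (h1 c) (h2 c)
  | smul a y _ h1 => intro c; rw [smul_eq_mul, ← mul_assoc]; exact h1 _

theorem isRadical_of_isRadical_map {k : Type u} [Field k] {L : Type v} [Field L] (h : k →+* L)
    {J : Ideal (MvPolynomial σ k)} (hJ : (J.map (MvPolynomial.map h)).IsRadical) : J.IsRadical := by
  intro z hz
  rw [← comap_map_eq h J, Ideal.mem_comap]
  refine hJ ?_
  obtain ⟨n, hn⟩ := hz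
  exact ⟨n, by rw [← map_pow]; exact Ideal.mem_map_of_mem _ hn⟩

/-- Finitely many elements of an algebraic extension field map to every algebraically closed field
over a nonempty open set of the base. -/
theorem exists_spread {A : Type u} [CommRing A] [IsDomain A] {K : Type v} [Field K] [Algebra A K]
    [Algebra.IsAlgebraic A K] (hAK : Function.Injective (algebraMap A K)) (T : Finset K) :
    ∃ (f : A) (B : Subalgebra A K), f ≠ 0 ∧ (T : Set K) ⊆ B ∧
      ∀ (Ω : Type w) [Field Ω] [IsAlgClosed Ω] (φ : A →+* Ω), φ f ≠ 0 →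
        ∃ ψ : B →+* Ω, ψ.comp (algebraMap A B) = φ := by
  obtain ⟨f, hf, hint⟩ := Algebra.IsAlgebraic.exists_integral_multiples (R := A) (A := K) T
  let A' := Localization.Away f
  have hfK : IsUnit (algebraMap A K f) := Ne.isUnit fun h => hf (hAK (h.trans (map_zero _).symm))
  let _ : Algebra A' K := (IsLocalization.Away.lift f hfK : A' →+* K).toAlgebra
  have : IsScalarTower A A' K := IsScalarTower.of_algebraMap_eq fun a =>
    (IsLocalization.Away.lift_eq f hfK a).symm
  have hA'K : Function.Injective (algebraMap A' K) :=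
    (IsLocalization.lift_injective_iff _).2 fun x y => ⟨fun h => congrArg _
      (IsLocalization.injective A' (powers_le_nonZeroDivisors_of_noZeroDivisors hf) h),
        fun h => congrArg _ (hAK h)⟩
  let B' : Subalgebra A' K := Algebra.adjoin A' (T : Set K)
  have hB' : B'.toSubmodule.FG := fg_adjoin_of_finite T.finite_toSet fun x hx => by
    have h2 := ((hint x hx).tower_top : IsIntegral A' (f • x)).smul
      (IsLocalization.Away.invSelf (S := A') f)
    rwa [← algebraMap_smul A' f x, smul_smul, mul_comm, IsLocalization.Away.mul_invSelf,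
      one_smul] at h2
  have : Module.Finite A' B' := ⟨(Submodule.fg_top _).2 hB'⟩
  refine ⟨f, B'.restrictScalars A, hf, fun x hx => Algebra.subset_adjoin hx, fun Ω _ _ φ hφ => ?_⟩
  obtain ⟨ψ, hψ⟩ := exists_extend_hom (R := A') (B := B')
    (fun x y h => hA'K (congrArg B'.val h)) (IsLocalization.Away.lift f (Ne.isUnit hφ))
  refine ⟨ψ, RingHom.ext fun a => ?_⟩
  have h1 := DFunLike.congr_fun hψ (algebraMap A A' a)
  rw [RingHom.comp_apply, IsLocalization.Away.lift_eq] at h1
  refine Eq.trans ?_ h1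
  exact congrArg ψ (Subtype.ext (IsScalarTower.algebraMap_apply A A' K a))

theorem map_span_range {R R' : Type*} [CommRing R] [CommRing R'] (φ : R →+* R') {ι : Type*}
    (H : ι → R) : (Ideal.span (Set.range H)).map φ = Ideal.span (Set.range fun i => φ (H i)) := by
  rw [Ideal.map_span, ← Set.range_comp]; rfl

/-- A polynomial outside an ideal stays outside over a nonempty open set. -/
theorem exists_notMem_span {A : Type u} [CommRing A] [IsDomain A] [IsNoetherianRing A] {K : Type u}
    [Field K] [IsAlgClosed K] [Algebra A K] [Algebra.IsAlgebraic A K]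
    (hAK : Function.Injective (algebraMap A K)) {N c : ℕ} (F : Fin c → MvPolynomial (Fin N) A)
    (z : MvPolynomial (Fin N) A)
    (hz : MvPolynomial.map (algebraMap A K) z ∉
      Ideal.span (Set.range fun j => MvPolynomial.map (algebraMap A K) (F j))) :
    ∃ f : A, f ≠ 0 ∧ ∀ (L : Type w) [Field L] (φ : A →+* L), φ f ≠ 0 →
      MvPolynomial.map φ z ∉ Ideal.span (Set.range fun j => MvPolynomial.map φ (F j)) := by
  classical
  obtain ⟨g, V, hg, hV, hgen⟩ := exists_generic_syzygies.{u, w}
    (fun _ : Fin 1 => (Fin.cons z F : Fin (c + 1) → MvPolynomial (Fin N) A))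
  let FK := fun j => MvPolynomial.map (algebraMap A K) (F j)
  let zK := MvPolynomial.map (algebraMap A K) z
  let Q : Ideal (MvPolynomial (Fin N) K) := (Ideal.span (Set.range FK)).colon {zK}
  have hQ : Q ≠ ⊤ := fun h => hz (by
    have h1 : (1 : MvPolynomial (Fin N) K) ∈ Q := h ▸ Submodule.mem_top
    simpa [Q, Submodule.mem_colon_singleton] using h1)
  obtain ⟨m, hm, hQm⟩ := Q.exists_le_maximal hQ
  obtain ⟨x, rfl⟩ := isMaximal_iff_eq_vanishingIdeal_singleton.1 hm
  have hv0 : ∀ v ∈ V, eval x (MvPolynomial.map (algebraMap A K) (v 0)) = 0 := by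
    intro v hv
    have h1 := congrArg (MvPolynomial.map (algebraMap A K)) (hV v hv 0)
    rw [Fin.sum_univ_succ] at h1
    simp only [Fin.cons_zero, Fin.cons_succ, map_add, map_mul, map_sum, map_zero] at h1
    have h2 : MvPolynomial.map (algebraMap A K) (v 0) ∈ Q := by
      rw [Submodule.mem_colon_singleton, smul_eq_mul, mul_comm, eq_neg_of_add_eq_zero_left h1]
      exact neg_mem (Ideal.sum_mem _ fun j _ => Ideal.mul_mem_right _ _
        (Ideal.subset_span (Set.mem_range_self j)))
    exact mem_vanishingIdeal_singleton_iff _ _ |>.1 (hQm h2)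
  obtain ⟨f, B, hf, hB, hspread⟩ := exists_spread.{u, u, w} hAK (Finset.univ.image x)
  have hxB : ∀ i, x i ∈ B := fun i => hB (by simp)
  refine ⟨g * f, mul_ne_zero hg hf, fun L _ φ hφ hcon => ?_⟩
  rw [map_mul, mul_ne_zero_iff] at hφ
  let Ω := AlgebraicClosure L
  let φ' : A →+* Ω := (algebraMap L Ω).comp φ
  obtain ⟨ψ, hψ⟩ := hspread Ω φ' (fun h => hφ.2
    ((map_eq_zero_iff _ (algebraMap L Ω).injective).1 h))
  obtain ⟨d, hd⟩ := Ideal.mem_span_range_iff_exists_fun.1 hcon
  have hx := hgen L φ (Ne.isUnit hφ.1) (Fin.cons 1 fun j => - d j) (fun _ => by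
    rw [Fin.sum_univ_succ]
    simp only [Fin.cons_zero, Fin.cons_succ, mul_neg, Finset.sum_neg_distrib, mul_one]
    rw [← hd, ← sub_eq_add_neg, sub_eq_zero]
    exact Finset.sum_congr rfl fun j _ => mul_comm _ _)
  let xB : Fin N → B := fun i => ⟨x i, hxB i⟩
  let ev : MvPolynomial (Fin N) L →+* Ω := eval₂Hom (algebraMap L Ω) (ψ ∘ xB)
  suffices ∀ y : Fin (c + 1) → MvPolynomial (Fin N) L,
      y ∈ Submodule.span (MvPolynomial (Fin N) L) ((spec φ) '' (V : Set (Fin (c + 1) → MvPolynomial (Fin N) A))) →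
      ev (y 0) = 0 by simpa [ev] using this _ hx
  intro y hy
  induction hy using Submodule.span_induction with
  | mem y hy =>
    obtain ⟨v, hv, rfl⟩ := hy
    have h1 : eval xB (MvPolynomial.map (algebraMap A B) (v 0)) = 0 := Subtype.ext (by
      have h3 := map_eval B.val.toRingHom xB (MvPolynomial.map (algebraMap A B) (v 0))
      rw [MvPolynomial.map_map] at h3
      exact h3.trans (hv0 v hv))
    have h2 := congrArg ψ h1
    rw [map_zero, map_eval ψ, MvPolynomial.map_map, hψ] at h2
    rw [← h2]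
    simp only [ev, spec, coe_eval₂Hom, eval₂_map, eval_map]
    rfl
  | zero => exact map_zero _
  | add a b _ _ ha hb => rw [Pi.add_apply, map_add, ha, hb, add_zero]
  | smul a b _ hb => rw [Pi.smul_apply, smul_eq_mul, map_mul, hb, mul_zero]

/-- The fibre at `φ` is reduced. -/
def Red {R : Type u} [CommRing R] {N : ℕ} (I : Ideal (MvPolynomial (Fin N) R)) {L : Type v}
    [CommRing L] (φ : R →+* L) : Prop := (I.map (MvPolynomial.map φ)).IsRadical

theorem red_comp {R : Type u} [CommRing R] {R' : Type w} [CommRing R'] {N : ℕ}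
    (I : Ideal (MvPolynomial (Fin N) R)) {L : Type v} [CommRing L] (g : R →+* R') (φ : R' →+* L) :
    Red (I.map (MvPolynomial.map g)) φ ↔ Red I (φ.comp g) := by
  unfold Red
  rw [Ideal.map_map]
  have : (MvPolynomial.map φ).comp (MvPolynomial.map g) =
      (MvPolynomial.map (φ.comp g) : MvPolynomial (Fin N) R →+* MvPolynomial (Fin N) L) :=
    RingHom.ext fun p => MvPolynomial.map_map g φ p
  rw [this]

/-- Over a Noetherian domain: geometrically reduced generic fibre gives geometrically reduced fibres. -/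
theorem exists_red_of_generic {A : Type u} [CommRing A] [IsDomain A] [IsNoetherianRing A]
    {K : Type u} [Field K] [IsAlgClosed K] [Algebra A K] [Algebra.IsAlgebraic A K]
    (hAK : Function.Injective (algebraMap A K)) {N c : ℕ} (F : Fin c → MvPolynomial (Fin N) A)
    (hred : Red (Ideal.span (Set.range F)) (algebraMap A K)) :
    ∃ f : A, f ≠ 0 ∧ ∀ (L : Type w) [Field L] (φ : A →+* L), φ f ≠ 0 →
      Red (Ideal.span (Set.range F)) φ := by
  classical
  let FK : Fin c → MvPolynomial (Fin N) K := fun j => MvPolynomial.map (algebraMap A K) (F j)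
  rw [Red, map_span_range] at hred
  obtain ⟨s, G, b, e, t, hC, hnzd⟩ := exists_cert FK
  have hGF : ∀ i, G i ∈ Ideal.span (Set.range FK) := fun i => hred ⟨e i, hC.pow_mem i⟩
  let T₀ : Finset K := (Finset.univ.biUnion fun i => cfs (G i)) ∪ cfs b
  let B₀ : Subalgebra A K := Algebra.adjoin A (T₀ : Set K)
  have : Algebra.FiniteType A B₀ :=
    (Subalgebra.fg_iff_finiteType _).1 (Subalgebra.fg_adjoin_finset T₀)
  have : IsNoetherianRing B₀ := Algebra.FiniteType.isNoetherianRing A B₀
  choose G₀ hG₀ using fun i => exists_lift_poly (G i) B₀ fun x hx => Algebra.subset_adjoin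
    (Finset.mem_coe.2 (Finset.mem_union_left _ (Finset.mem_biUnion.2 ⟨i, Finset.mem_univ i, hx⟩)))
  obtain ⟨b₀, hb₀⟩ := exists_lift_poly b B₀ fun x hx => Algebra.subset_adjoin
    (Finset.mem_coe.2 (Finset.mem_union_right _ hx))
  obtain ⟨g, V, hg, hV, hgen⟩ := exists_generic_syzygies.{u, w}
    (fun _ : Fin 1 => (Fin.cons b₀ G₀ : Fin (s + 1) → MvPolynomial (Fin N) B₀))
  have hV0 : ∀ v : V, MvPolynomial.map B₀.val.toRingHom (v.1 0) ∈ Ideal.span (Set.range G) := by
    intro v
    refine hnzd _ ?_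
    have h1 := congrArg (MvPolynomial.map B₀.val.toRingHom) (hV v.1 v.2 0)
    rw [Fin.sum_univ_succ] at h1
    simp only [Fin.cons_zero, Fin.cons_succ, map_add, map_mul, map_sum, map_zero, hb₀, hG₀] at h1
    rw [eq_neg_of_add_eq_zero_left h1]
    exact neg_mem (Ideal.sum_mem _ fun i _ => Ideal.mul_mem_right _ _
      (Ideal.subset_span (Set.mem_range_self i)))
  choose T₁ hT₁ using fun j => exists_descend (A := A) (hC.mem j)
  choose T₂ hT₂ using fun i => exists_descend (A := A) (hC.pow_mem i)
  choose T₃ hT₃ using fun o => exists_descend (A := A) (hC.aeval_mem o)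
  choose T₄ hT₄ using fun o => exists_descend (A := A) (hC.sub_mem o)
  choose T₅ hT₅ using fun v => exists_descend (A := A) (hV0 v)
  choose T₆ hT₆ using fun i => exists_descend (A := A) (hGF i)
  obtain ⟨f, BA, hf, hTB, hspread⟩ := exists_spread.{u, u, w} hAK
    (T₀ ∪ {((g : K))⁻¹} ∪ (Finset.univ.biUnion fun o => cfs (t o)) ∪
      Finset.univ.biUnion T₁ ∪ Finset.univ.biUnion T₂ ∪ Finset.univ.biUnion T₃ ∪
      Finset.univ.biUnion T₄ ∪ Finset.univ.biUnion T₅ ∪ Finset.univ.biUnion T₆)
  simp only [Finset.coe_union, Finset.coe_biUnion, Set.union_subset_iff, Set.iUnion_subset_iff,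
    Finset.coe_univ, Set.mem_univ, forall_true_left] at hTB
  obtain ⟨⟨⟨⟨⟨⟨⟨⟨hB0, hBg⟩, hBt⟩, hB1⟩, hB2⟩, hB3⟩, hB4⟩, hB5⟩, hB6⟩ := hTB
  let incl : B₀ →ₐ[A] BA := Subalgebra.inclusion (Algebra.adjoin_le hB0)
  have hincl : ∀ {τ : Type} (p : MvPolynomial τ B₀), MvPolynomial.map BA.val.toRingHom
      (MvPolynomial.map incl.toRingHom p) = MvPolynomial.map B₀.val.toRingHom p := fun p => by
    rw [MvPolynomial.map_map]; rfl
  let GB := fun i => MvPolynomial.map incl.toRingHom (G₀ i)
  let bB := MvPolynomial.map incl.toRingHom b₀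
  let FB := fun j => MvPolynomial.map (algebraMap A BA) (F j)
  have hGB : ∀ i, MvPolynomial.map BA.val.toRingHom (GB i) = G i := fun i => (hincl _).trans (hG₀ i)
  have hbB : MvPolynomial.map BA.val.toRingHom bB = b := (hincl _).trans hb₀
  have hFB : ∀ j, MvPolynomial.map BA.val.toRingHom (FB j) = FK j := fun j => by
    simp only [FB, FK, MvPolynomial.map_map]; rfl
  choose tB htB using fun o => exists_lift_poly (t o) BA (hBt o)
  have hgens : ∀ o, MvPolynomial.map BA.val.toRingHom (gensAway GB bB o) = gensAway G b o := fun o => by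
    rw [← gensAway_map, hbB, funext hGB]
  have hCB : Cert FB GB bB e tB := by
    refine ⟨fun j => hT₁ j BA (hB1 j) _ _ (hFB j) hGB, fun i => hT₂ i BA (hB2 i) _ _ (by
      rw [map_pow, hGB]) hFB, fun o => hT₃ o BA (hB3 o) _ _ ?_ (fun p => by rw [map_mul, hgens, hgens]),
      fun o => hT₄ o BA (hB4 o) _ _ (by rw [map_sub, htB, map_X]) hgens⟩
    rw [← hgens]
    have h2 : (aeval t).toRingHom.comp (MvPolynomial.map BA.val.toRingHom) =
        (MvPolynomial.map BA.val.toRingHom).comp (aeval tB).toRingHom :=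
      MvPolynomial.ringHom_ext (fun r => by simp) fun i => by simpa using (htB i).symm
    exact (DFunLike.congr_fun h2 _).symm
  refine ⟨f, hf, fun L _ φ hφ => ?_⟩
  let Ω := AlgebraicClosure L
  obtain ⟨ψ, hψ⟩ := hspread Ω ((algebraMap L Ω).comp φ) (fun h => hφ
    ((map_eq_zero_iff _ (algebraMap L Ω).injective).1 h))
  let χ : B₀ →+* Ω := ψ.comp incl.toRingHom
  have hgu : IsUnit (χ g) := by
    refine IsUnit.map ψ (IsUnit.of_mul_eq_one (⟨((g : K))⁻¹, hBg (by simp)⟩ : BA) (Subtype.ext ?_))
    exact mul_inv_cancel₀ fun h => hg (Subtype.ext h)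
  let GX := fun i => MvPolynomial.map χ (G₀ i)
  have hGX : (fun i => MvPolynomial.map ψ (GB i)) = GX := funext fun i => MvPolynomial.map_map _ _ _
  have hnz : ∀ z, MvPolynomial.map χ b₀ * z ∈ Ideal.span (Set.range GX) → z ∈ Ideal.span (Set.range GX) := by
    intro z hz
    obtain ⟨d, hd⟩ := Ideal.mem_span_range_iff_exists_fun.1 hz
    have hgx := hgen Ω χ hgu (Fin.cons z fun i => - d i) (fun _ => by
      rw [Fin.sum_univ_succ]
      simp only [Fin.cons_zero, Fin.cons_succ, mul_neg, Finset.sum_neg_distrib]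
      rw [← hd, ← sub_eq_add_neg, sub_eq_zero]
      exact Finset.sum_congr rfl fun i _ => mul_comm _ _)
    suffices ∀ x : Fin (s + 1) → MvPolynomial (Fin N) Ω,
        x ∈ Submodule.span (MvPolynomial (Fin N) Ω) ((spec χ) '' (V : Set (Fin (s + 1) → MvPolynomial (Fin N) B₀))) →
        x 0 ∈ Ideal.span (Set.range GX) by simpa using this _ hgx
    intro x hx
    induction hx using Submodule.span_induction with
    | mem x hx =>
      obtain ⟨v, hv, rfl⟩ := hx
      have h1 := hT₅ ⟨v, hv⟩ BA (hB5 ⟨v, hv⟩) (MvPolynomial.map incl.toRingHom (v 0)) GB (hincl _) hGB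
      have h2 := map_mem_span (MvPolynomial.map ψ) h1
      rw [hGX, MvPolynomial.map_map] at h2
      exact h2
    | zero => exact zero_mem _
    | add x y _ _ hx hy => exact add_mem hx hy
    | smul a x _ hx => exact Ideal.mul_mem_left _ a hx
  have hrad : (Ideal.span (Set.range fun j => MvPolynomial.map ψ (FB j))).radical =
      Ideal.span (Set.range GX) := by
    have h1 := (hCB.map ψ).radical_eq (by
      rw [hGX]
      simp only [bB, MvPolynomial.map_map]
      exact hnz)
    rwa [hGX] at h1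
  refine isRadical_of_isRadical_map (algebraMap L Ω) ?_
  rw [Ideal.map_map]
  have h3 : (MvPolynomial.map (algebraMap L Ω)).comp (MvPolynomial.map φ) =
      ((MvPolynomial.map ψ).comp (MvPolynomial.map (algebraMap A BA)) :
        MvPolynomial (Fin N) A →+* MvPolynomial (Fin N) Ω) :=
    RingHom.ext fun p => by
      simp only [RingHom.comp_apply, MvPolynomial.map_map]
      exact congrArg (fun h => MvPolynomial.map h p) hψ.symm
  rw [h3, ← Ideal.map_map, map_span_range, map_span_range]
  intro z hz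
  rw [hrad] at hz
  refine (Ideal.span_le.2 ?_) hz
  rintro _ ⟨i, rfl⟩
  have := map_mem_span (MvPolynomial.map ψ) (hT₆ i BA (hB6 i) (GB i) FB (hGB i) hFB)
  exact (congrFun hGX i) ▸ this

/-- Over a Noetherian domain: a witness of non-reducedness over an algebraic extension spreads. -/
theorem exists_not_red_of_generic {A : Type u} [CommRing A] [IsDomain A] [IsNoetherianRing A]
    {K : Type u} [Field K] [IsAlgClosed K] [Algebra A K] [Algebra.IsAlgebraic A K]
    (hAK : Function.Injective (algebraMap A K)) {N c : ℕ} (F : Fin c → MvPolynomial (Fin N) A)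
    (hred : ¬ Red (Ideal.span (Set.range F)) (algebraMap A K)) :
    ∃ f : A, f ≠ 0 ∧ ∀ (L : Type w) [Field L] [IsAlgClosed L] (φ : A →+* L), φ f ≠ 0 →
      ¬ Red (Ideal.span (Set.range F)) φ := by
  classical
  let FK : Fin c → MvPolynomial (Fin N) K := fun j => MvPolynomial.map (algebraMap A K) (F j)
  rw [Red, map_span_range] at hred
  obtain ⟨z, hz, hzF⟩ := SetLike.not_le_iff_exists.1 hred
  obtain ⟨n, hn⟩ := hz
  let B₀ : Subalgebra A K := Algebra.adjoin A (cfs z : Set K)
  have : Algebra.FiniteType A B₀ :=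
    (Subalgebra.fg_iff_finiteType _).1 (Subalgebra.fg_adjoin_finset _)
  have : IsNoetherianRing B₀ := Algebra.FiniteType.isNoetherianRing A B₀
  have : Algebra.IsAlgebraic B₀ K := Algebra.IsAlgebraic.extendScalars (R := A) (fun x y h => hAK (congrArg Subtype.val h))
  obtain ⟨z₀, hz₀⟩ := exists_lift_poly z B₀ fun x hx => Algebra.subset_adjoin hx
  have hF₀ : ∀ j, MvPolynomial.map (algebraMap B₀ K) (MvPolynomial.map (algebraMap A B₀) (F j)) = FK j :=
    fun j => by simp only [FK, MvPolynomial.map_map]; rfl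
  obtain ⟨g, hg, hgen⟩ := exists_notMem_span.{u, w} (A := B₀) (K := K) Subtype.val_injective
    (fun j => MvPolynomial.map (algebraMap A B₀) (F j)) z₀ (by
      rw [show MvPolynomial.map (algebraMap B₀ K) z₀ = z from hz₀, funext hF₀]
      exact hzF)
  obtain ⟨T₁, hT₁⟩ := exists_descend (A := A) hn
  obtain ⟨f, BA, hf, hTB, hspread⟩ := exists_spread.{u, u, w} hAK (cfs z ∪ {((g : K))⁻¹} ∪ T₁)
  simp only [Finset.coe_union, Set.union_subset_iff] at hTB
  obtain ⟨⟨hB0, hBg⟩, hB1⟩ := hTB
  let incl : B₀ →ₐ[A] BA := Subalgebra.inclusion (Algebra.adjoin_le hB0)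
  refine ⟨f, hf, fun L _ _ φ hφ hL => ?_⟩
  obtain ⟨ψ, hψ⟩ := hspread L φ hφ
  let χ : B₀ →+* L := ψ.comp incl.toRingHom
  have hgu : χ g ≠ 0 := by
    refine IsUnit.ne_zero (IsUnit.map ψ (IsUnit.of_mul_eq_one (⟨((g : K))⁻¹, hBg (by simp)⟩ : BA)
      (Subtype.ext ?_)))
    exact mul_inv_cancel₀ fun h => hg (Subtype.ext h)
  refine hgen L χ hgu ?_
  rw [Red, map_span_range] at hL
  have hFχ : (fun j => MvPolynomial.map χ (MvPolynomial.map (algebraMap A B₀) (F j))) =
      fun j => MvPolynomial.map φ (F j) := funext fun j => by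
    simp only [MvPolynomial.map_map]
    refine congrArg (fun h => MvPolynomial.map h (F j)) (RingHom.ext fun a => ?_)
    rw [← hψ]
    exact congrArg ψ (incl.commutes a)
  rw [hFχ]
  refine hL ⟨n, ?_⟩
  have h1 := hT₁ BA hB1 ((MvPolynomial.map incl.toRingHom z₀) ^ n)
    (fun j => MvPolynomial.map (algebraMap A BA) (F j))
    (by rw [map_pow, MvPolynomial.map_map]; exact congrArg (· ^ n) hz₀)
    (fun j => by rw [MvPolynomial.map_map]; rfl)
  have h2 := map_mem_span (MvPolynomial.map ψ) h1
  rw [map_pow, MvPolynomial.map_map] at h2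
  simp only [MvPolynomial.map_map, hψ] at h2
  exact h2

end Groth.Calg2.Uniform
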