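import Groth.Agent.Calg2.Uniform.Fibres
import Mathlib.RingTheory.Spectrum.Prime.ChevalleyComplexity
import Mathlib.RingTheory.LocalRing.ResidueField.Ideal

/-!
# Reduced fibres over arbitrary domains; constructibility
-/

universe u v w

namespace Groth.Calg2.Uniform

open MvPolynomial

/-- Over a domain an ideal of `R[T]` is finitely generated near the generic point. -/
theorem exists_gens_away {R : Type u} [CommRing R] [IsDomain R] {N : ℕ}
    (I : Ideal (MvPolynomial (Fin N) R)) :
    ∃ (f : R) (c : ℕ) (F : Fin c → MvPolynomial (Fin N) R), f ≠ 0 ∧ (∀ j, F j ∈ I) ∧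
      ∀ x ∈ I, ∃ k : ℕ, C (f ^ k) * x ∈ Ideal.span (Set.range F) := by
  classical
  obtain ⟨f, hf, U', hle, ⟨t, ht⟩, hsat⟩ := GenericFree.exists_fg_le_saturating
    (Submodule.comap (LinearMap.proj (R := MvPolynomial (Fin N) R)
      (φ := fun _ : Fin 1 => MvPolynomial (Fin N) R) 0) I)
  let e : Fin t.card ≃ t := t.equivFin.symm
  refine ⟨f, t.card, fun j => (e j).1 0, hf, fun j => hle (ht ▸ Submodule.subset_span (e j).2),
    fun x hx => ?_⟩
  obtain ⟨k, hk⟩ := hsat f dvd_rfl (fun _ => x) hx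
  rw [← ht] at hk
  have h1 : ∀ v ∈ Submodule.span (MvPolynomial (Fin N) R) (t : Set (Fin 1 → MvPolynomial (Fin N) R)),
      v 0 ∈ Ideal.span (Set.range fun j => (e j).1 0) := by
    intro v hv
    induction hv using Submodule.span_induction with
    | mem v hv => exact Ideal.subset_span ⟨e.symm ⟨v, hv⟩, by simp⟩
    | zero => exact zero_mem _
    | add a b _ _ ha hb => exact add_mem ha hb
    | smul a b _ hb => exact Ideal.mul_mem_left _ a hb
  have h2 := h1 _ hk
  rw [Pi.smul_apply, smul_eq_C_mul] at h2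
  exact ⟨k, h2⟩

theorem map_eq_span {R : Type u} [CommRing R] {N c : ℕ} {I : Ideal (MvPolynomial (Fin N) R)} {f : R}
    {F : Fin c → MvPolynomial (Fin N) R} (hF : ∀ j, F j ∈ I)
    (h : ∀ x ∈ I, ∃ k : ℕ, C (f ^ k) * x ∈ Ideal.span (Set.range F))
    {L : Type w} [Field L] (φ : R →+* L) (hφ : φ f ≠ 0) :
    I.map (MvPolynomial.map φ) = Ideal.span (Set.range fun j => MvPolynomial.map φ (F j)) := by
  refine le_antisymm (Ideal.map_le_iff_le_comap.2 fun x hx => ?_) ?_
  · obtain ⟨k, hk⟩ := h x hx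
    have h2 := map_mem_span (MvPolynomial.map φ) hk
    rw [map_mul, map_C, map_pow] at h2
    exact Ideal.mem_comap.2 ((Ideal.unit_mul_mem_iff_mem _ ((Ne.isUnit (pow_ne_zero k hφ)).map C)).1 h2)
  · rw [Ideal.span_le]
    rintro _ ⟨j, rfl⟩
    exact Ideal.mem_map_of_mem _ (hF j)

/-- Finitely many polynomials come from a finitely generated subring. -/
theorem exists_model {R : Type u} [CommRing R] {N c : ℕ} (F : Fin c → MvPolynomial (Fin N) R) :
    ∃ R₀ : Subalgebra ℤ R, IsNoetherianRing R₀ ∧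
      ∃ F₀ : Fin c → MvPolynomial (Fin N) R₀, ∀ j, MvPolynomial.map R₀.val.toRingHom (F₀ j) = F j := by
  classical
  let R₀ : Subalgebra ℤ R := Algebra.adjoin ℤ ((Finset.univ.biUnion fun j => cfs (F j) : Finset R) : Set R)
  have : Algebra.FiniteType ℤ R₀ :=
    (Subalgebra.fg_iff_finiteType _).1 (Subalgebra.fg_adjoin_finset _)
  choose F₀ hF₀ using fun j => exists_lift_poly (F j) R₀ fun x hx => Algebra.subset_adjoin
    (Finset.mem_coe.2 (Finset.mem_biUnion.2 ⟨j, Finset.mem_univ j, hx⟩))
  exact ⟨R₀, Algebra.FiniteType.isNoetherianRing ℤ R₀, F₀, hF₀⟩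

theorem span_map_model {R : Type u} [CommRing R] {R₀ : Type v} [CommRing R₀] (i : R₀ →+* R) {N c : ℕ}
    {L : Type w} [CommRing L] (φ : R →+* L) {F : Fin c → MvPolynomial (Fin N) R}
    {F₀ : Fin c → MvPolynomial (Fin N) R₀} (h : ∀ j, MvPolynomial.map i (F₀ j) = F j) :
    Ideal.span (Set.range fun j => MvPolynomial.map φ (F j)) =
      Ideal.span (Set.range fun j => MvPolynomial.map (φ.comp i) (F₀ j)) := by
  refine congrArg Ideal.span (congrArg Set.range (funext fun j => ?_))
  rw [← h j, MvPolynomial.map_map]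

/-- Dichotomy over a Noetherian domain. -/
theorem exists_dichotomy {A : Type u} [CommRing A] [IsDomain A] [IsNoetherianRing A] {N c : ℕ}
    (F : Fin c → MvPolynomial (Fin N) A) :
    ∃ f : A, f ≠ 0 ∧
      ((∀ (L : Type w) [Field L] (φ : A →+* L), φ f ≠ 0 → Red (Ideal.span (Set.range F)) φ) ∨
        ∀ (L : Type w) [Field L] [IsAlgClosed L] (φ : A →+* L), φ f ≠ 0 →
          ¬ Red (Ideal.span (Set.range F)) φ) := by
  let K := AlgebraicClosure (FractionRing A)
  have : Algebra.IsAlgebraic A K := by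
    have : Algebra.IsAlgebraic A (FractionRing A) := IsLocalization.isAlgebraic _ (nonZeroDivisors A)
    exact Algebra.IsAlgebraic.trans A (FractionRing A) K
  have hAK : Function.Injective (algebraMap A K) := by
    rw [IsScalarTower.algebraMap_eq A (FractionRing A) K, RingHom.coe_comp]
    exact (RingHom.injective _).comp (IsFractionRing.injective A (FractionRing A))
  by_cases h : Red (Ideal.span (Set.range F)) (algebraMap A K)
  · obtain ⟨f, hf, h'⟩ := exists_red_of_generic.{u, w} hAK F h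
    exact ⟨f, hf, Or.inl h'⟩
  · obtain ⟨f, hf, h'⟩ := exists_not_red_of_generic.{u, w} hAK F h
    exact ⟨f, hf, Or.inr h'⟩

/-- Over any domain: the fibres near the generic point are geometrically reduced or none is. -/
theorem exists_dichotomy_domain {R : Type u} [CommRing R] [IsDomain R] {N : ℕ}
    (I : Ideal (MvPolynomial (Fin N) R)) :
    ∃ f : R, f ≠ 0 ∧
      ((∀ (L : Type w) [Field L] (φ : R →+* L), φ f ≠ 0 → Red I φ) ∨
        ∀ (L : Type w) [Field L] [IsAlgClosed L] (φ : R →+* L), φ f ≠ 0 → ¬ Red I φ) := by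
  obtain ⟨f₁, c, F, hf₁, hFI, hI⟩ := exists_gens_away I
  obtain ⟨R₀, _, F₀, hF₀⟩ := exists_model F
  obtain ⟨f₀, hf₀, h⟩ := exists_dichotomy.{u, w} F₀
  have hf₀' : (f₀ : R) ≠ 0 := fun h => hf₀ (Subtype.ext h)
  have key : ∀ (L : Type w) [Field L] (φ : R →+* L), φ f₁ ≠ 0 →
      (Red I φ ↔ Red (Ideal.span (Set.range F₀)) (φ.comp R₀.val.toRingHom)) := by
    intro L _ φ hφ
    unfold Red
    rw [map_eq_span hFI hI φ hφ, map_span_range, span_map_model _ φ hF₀]
  refine ⟨f₁ * (f₀ : R), mul_ne_zero hf₁ hf₀', h.imp (fun h L _ φ hφ => ?_) (fun h L _ _ φ hφ => ?_)⟩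
  all_goals
    rw [map_mul, mul_ne_zero_iff] at hφ
    rw [key L φ hφ.1]
    exact h L _ hφ.2

theorem coeff_mem_cfs {k : Type u} [CommRing k] {τ : Type*} (p : MvPolynomial τ k) {m : τ →₀ ℕ}
    (hm : m ∈ p.support) : p.coeff m ∈ cfs p := by
  classical
  exact Finset.mem_image.2 ⟨m, hm, rfl⟩

/-- A non-reduced generic fibre makes all nearby fibres non-reduced. -/
theorem exists_not_red_of_fractionRing {R : Type u} [CommRing R] [IsDomain R] {N : ℕ}
    (I : Ideal (MvPolynomial (Fin N) R)) (hI₀ : ¬ Red I (algebraMap R (FractionRing R))) :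
    ∃ f : R, f ≠ 0 ∧ ∀ (L : Type w) [Field L] (φ : R →+* L), φ f ≠ 0 → ¬ Red I φ := by
  classical
  let k := FractionRing R
  obtain ⟨f₁', c', F', hf₁', hFI, hI'⟩ := exists_gens_away I
  have hk : ∀ {a : R}, a ≠ 0 → algebraMap R k a ≠ 0 := fun h =>
    fun h' => h (IsFractionRing.injective R k (h'.trans (map_zero _).symm))
  -- clearing denominators
  have hclear : ∀ T : Finset (MvPolynomial (Fin N) k), ∃ r : R, r ≠ 0 ∧ ∀ p ∈ T,
      ∃ q : MvPolynomial (Fin N) R, MvPolynomial.map (algebraMap R k) q = C (algebraMap R k r) * p := by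
    intro T
    obtain ⟨⟨r, hr⟩, hr'⟩ := IsLocalization.exist_integer_multiples (nonZeroDivisors R)
      (T.biUnion cfs) fun x => x
    refine ⟨r, nonZeroDivisors.ne_zero hr, fun p hp => ?_⟩
    choose a ha using fun m : p.support => hr' (p.coeff m.1)
      (Finset.mem_biUnion.2 ⟨p, hp, coeff_mem_cfs p m.2⟩)
    refine ⟨∑ m, monomial m.1 (a m), ?_⟩
    conv_rhs => rw [p.as_sum, Finset.mul_sum, ← Finset.sum_coe_sort]
    rw [map_sum]
    refine Finset.sum_congr rfl fun m _ => ?_
    rw [map_monomial, ha, C_mul_monomial]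
    exact congrArg _ (Algebra.smul_def _ _)
  obtain ⟨z, hz, hzI⟩ := SetLike.not_le_iff_exists.1 hI₀
  obtain ⟨n, hn⟩ := hz
  obtain ⟨r, hr, hr'⟩ := hclear {z}
  obtain ⟨z₁, hz₁⟩ := hr' z (Finset.mem_singleton_self z)
  rw [map_eq_span hFI hI' (algebraMap R k) (hk hf₁')] at hn hzI
  obtain ⟨d, hd⟩ := Ideal.mem_span_range_iff_exists_fun.1 hn
  obtain ⟨r', hr₀, hd'⟩ := hclear (Finset.univ.image d)
  choose d₁ hd₁ using fun j => hd' (d j) (Finset.mem_image_of_mem d (Finset.mem_univ j))
  -- the model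
  obtain ⟨R₀, _, G₀, hG₀⟩ := exists_model (Fin.cons z₁ F' : Fin (c' + 1) → MvPolynomial (Fin N) R)
  let k₀ := FractionRing R₀
  let K := AlgebraicClosure k₀
  have : Algebra.IsAlgebraic R₀ K := by
    have : Algebra.IsAlgebraic R₀ k₀ := IsLocalization.isAlgebraic _ (nonZeroDivisors R₀)
    exact Algebra.IsAlgebraic.trans R₀ k₀ K
  have hAK : Function.Injective (algebraMap R₀ K) := by
    rw [IsScalarTower.algebraMap_eq R₀ k₀ K, RingHom.coe_comp]
    exact (RingHom.injective _).comp (IsFractionRing.injective R₀ k₀)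
  let Ω := AlgebraicClosure k
  let i : R₀ →+* Ω := (algebraMap k Ω).comp ((algebraMap R k).comp R₀.val.toRingHom)
  obtain ⟨f₀, hf₀, hgen⟩ := exists_notMem_span.{u, w} (K := K) hAK (fun j => G₀ j.succ) (G₀ 0) (by
    intro hmem
    have : Module.IsTorsionFree R₀ Ω := Module.isTorsionFree_iff_algebraMap_injective.2
      (((algebraMap k Ω).injective.comp (IsFractionRing.injective R k)).comp Subtype.val_injective)
    have : Module.IsTorsionFree R₀ K := Module.isTorsionFree_iff_algebraMap_injective.2 hAK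
    let l : K →ₐ[R₀] Ω := IsAlgClosed.lift
    have h1 := map_mem_span (MvPolynomial.map l.toRingHom) hmem
    simp only [MvPolynomial.map_map] at h1
    have hl : l.toRingHom.comp (algebraMap R₀ K) =
        ((algebraMap k Ω).comp (algebraMap R k)).comp R₀.val.toRingHom := RingHom.ext fun a => l.commutes a
    simp only [hl, ← MvPolynomial.map_map R₀.val.toRingHom, hG₀, Fin.cons_zero, Fin.cons_succ] at h1
    simp only [← MvPolynomial.map_map (algebraMap R k)] at h1
    rw [hz₁] at h1
    have h2 : C (algebraMap R k r) * z ∈ Ideal.span (Set.range fun j => MvPolynomial.map (algebraMap R k) (F' j)) := by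
      rw [← comap_map_eq (algebraMap k Ω) (Ideal.span _), Ideal.mem_comap, map_span_range]
      exact h1
    exact hzI ((Ideal.unit_mul_mem_iff_mem _ ((Ne.isUnit (hk hr)).map C)).1 h2))
  refine ⟨f₁' * r * r' * (f₀ : R), ?_, fun L _ φ hφ hred => ?_⟩
  · exact mul_ne_zero (mul_ne_zero (mul_ne_zero hf₁' hr) hr₀)
      fun h => hf₀ (Subtype.ext h)
  simp only [map_mul, mul_ne_zero_iff] at hφ
  obtain ⟨⟨⟨h1', hrφ⟩, hr'φ⟩, hf₀φ⟩ := hφ
  refine hgen L (φ.comp R₀.val.toRingHom) hf₀φ ?_
  simp only [← MvPolynomial.map_map R₀.val.toRingHom, hG₀, Fin.cons_zero, Fin.cons_succ]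
  -- `F'` and `F` generate the same ideal in every fibre over `D(f₁ f₁')`
  have hinj : Function.Injective (MvPolynomial.map (σ := Fin N) (algebraMap R k)) :=
    MvPolynomial.map_injective _ (IsFractionRing.injective R k)
  have hrel : C r' * z₁ ^ n = ∑ j, C (r ^ n) * d₁ j * F' j := by
    apply hinj
    simp only [map_mul, map_pow, map_sum, map_C, hz₁, hd₁, mul_pow, ← hd, Finset.mul_sum]
    exact Finset.sum_congr rfl fun j _ => by ring
  have hmem : MvPolynomial.map φ z₁ ^ n ∈ Ideal.span (Set.range fun j => MvPolynomial.map φ (F' j)) := by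
    have h3 : C (φ r') * MvPolynomial.map φ z₁ ^ n ∈
        Ideal.span (Set.range fun j => MvPolynomial.map φ (F' j)) := by
      have h4 := congrArg (MvPolynomial.map φ) hrel
      rw [map_mul, map_C, map_pow, map_sum] at h4
      rw [h4]
      exact Ideal.sum_mem _ fun j _ => by
        rw [map_mul]; exact Ideal.mul_mem_left _ _ (Ideal.subset_span (Set.mem_range_self j))
    exact (Ideal.unit_mul_mem_iff_mem _ ((Ne.isUnit hr'φ).map C)).1 h3
  have hII : Ideal.span (Set.range fun j => MvPolynomial.map φ (F' j)) = I.map (MvPolynomial.map φ) :=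
    (map_eq_span hFI hI' φ h1').symm
  rw [hII] at hmem ⊢
  exact hred ⟨n, hmem⟩

/-- Geometrically reduced fibre at a prime. -/
def GeomRedAt {R : Type u} [CommRing R] {N : ℕ} (I : Ideal (MvPolynomial (Fin N) R))
    (p : PrimeSpectrum R) : Prop :=
  ∀ (L : Type u) [Field L] (φ : R →+* L), RingHom.ker φ = p.asIdeal → Red I φ

theorem residue_ker {R : Type u} [CommRing R] (p : PrimeSpectrum R) :
    RingHom.ker ((algebraMap p.asIdeal.ResidueField (AlgebraicClosure p.asIdeal.ResidueField)).comp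
      (algebraMap R p.asIdeal.ResidueField)) = p.asIdeal := by
  ext a
  simp [RingHom.mem_ker]

/-- All algebraically closed fields over a prime of a Noetherian ring agree. -/
theorem all_or_none {A : Type u} [CommRing A] [IsNoetherianRing A] {N c : ℕ}
    (F : Fin c → MvPolynomial (Fin N) A) (p : PrimeSpectrum A) :
    (∀ (L : Type w) [Field L] (φ : A →+* L), RingHom.ker φ = p.asIdeal → Red (Ideal.span (Set.range F)) φ) ∨
      ∀ (L : Type w) [Field L] [IsAlgClosed L] (φ : A →+* L), RingHom.ker φ = p.asIdeal →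
        ¬ Red (Ideal.span (Set.range F)) φ := by
  obtain ⟨f, hf, h⟩ := exists_dichotomy.{u, w} fun j => MvPolynomial.map (Ideal.Quotient.mk p.asIdeal) (F j)
  have key : ∀ (L : Type w) [Field L] (φ : A →+* L), RingHom.ker φ = p.asIdeal →
      ∃ ψ : A ⧸ p.asIdeal →+* L, ψ f ≠ 0 ∧ (Red (Ideal.span (Set.range fun j =>
        MvPolynomial.map (Ideal.Quotient.mk p.asIdeal) (F j))) ψ ↔ Red (Ideal.span (Set.range F)) φ) := by
    intro L _ φ hk
    refine ⟨Ideal.Quotient.lift p.asIdeal φ fun a ha => by rwa [← RingHom.mem_ker, hk], ?_, ?_⟩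
    · obtain ⟨a, rfl⟩ := Ideal.Quotient.mk_surjective f
      rw [Ideal.Quotient.lift_mk]
      intro ha
      exact hf (Ideal.Quotient.eq_zero_iff_mem.2 (hk ▸ ha))
    · rw [← map_span_range, red_comp]
      rfl
  refine h.imp (fun h L _ φ hk => ?_) (fun h L _ _ φ hk => ?_)
  all_goals
    obtain ⟨ψ, hψ, hiff⟩ := key L φ hk
    rw [← hiff]
    exact h L ψ hψ

/-- The geometrically reduced locus is constructible over a Noetherian base. -/
theorem isConstructible_geomRedAt_of_isNoetherian {A : Type u} [CommRing A] [IsNoetherianRing A]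
    {N c : ℕ} (F : Fin c → MvPolynomial (Fin N) A) :
    Topology.IsConstructible {p : PrimeSpectrum A | GeomRedAt (Ideal.span (Set.range F)) p} := by
  classical
  set E := {p : PrimeSpectrum A | GeomRedAt (Ideal.span (Set.range F)) p}
  suffices ∀ I : Ideal A, Topology.IsConstructible (E ∩ PrimeSpectrum.zeroLocus (I : Set A)) by
    simpa using this ⊥
  have hopen : ∀ s : Set A, s.Finite → Topology.IsConstructible (PrimeSpectrum.zeroLocus s) := fun s hs =>
    ((PrimeSpectrum.isRetrocompact_zeroLocus_compl hs).isConstructible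
      (PrimeSpectrum.isClosed_zeroLocus s).isOpen_compl).of_compl
  intro I
  induction I using IsNoetherian.induction with
  | _ I ih =>
    by_cases htop : I = ⊤
    · subst htop
      simp
    have hlt : ∀ a, a ∉ I → I < I ⊔ Ideal.span {a} := fun a ha =>
      lt_of_le_of_ne le_sup_left fun h => ha (h ▸ Ideal.mem_sup_right (Ideal.mem_span_singleton_self a))
    by_cases hI : Ideal.IsPrime I
    · obtain ⟨f, hf, hd⟩ := exists_dichotomy.{u, u} fun j => MvPolynomial.map (Ideal.Quotient.mk I) (F j)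
      obtain ⟨a, rfl⟩ := Ideal.Quotient.mk_surjective f
      have ha : a ∉ I := fun h => hf (Ideal.Quotient.eq_zero_iff_mem.2 h)
      have hsplit : E ∩ PrimeSpectrum.zeroLocus (I : Set A) =
          (E ∩ PrimeSpectrum.zeroLocus ((I ⊔ Ideal.span {a} : Ideal A) : Set A)) ∪
            (E ∩ (PrimeSpectrum.zeroLocus (I : Set A) ∩ (PrimeSpectrum.zeroLocus {a})ᶜ)) := by
        rw [PrimeSpectrum.zeroLocus_sup, PrimeSpectrum.zeroLocus_span, ← Set.inter_union_distrib_left,
          ← Set.inter_union_distrib_left, Set.union_compl_self, Set.inter_univ]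
      rw [hsplit]
      refine (ih _ (hlt a ha)).union ?_
      have hcons : Topology.IsConstructible
          (PrimeSpectrum.zeroLocus (I : Set A) ∩ (PrimeSpectrum.zeroLocus {a})ᶜ) :=
        (by
          obtain ⟨t, rfl⟩ := IsNoetherian.noetherian I
          rw [PrimeSpectrum.zeroLocus_span]
          exact hopen _ t.finite_toSet : Topology.IsConstructible
            (PrimeSpectrum.zeroLocus (I : Set A))).inter (hopen {a} (Set.finite_singleton a)).compl
      have hpt : ∀ p ∈ PrimeSpectrum.zeroLocus (I : Set A) ∩ (PrimeSpectrum.zeroLocus {a})ᶜ,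
          ∀ (L : Type u) [Field L] (φ : A →+* L), RingHom.ker φ = p.asIdeal →
            ∃ ψ : A ⧸ I →+* L, ψ (Ideal.Quotient.mk I a) ≠ 0 ∧ (Red (Ideal.span (Set.range fun j =>
              MvPolynomial.map (Ideal.Quotient.mk I) (F j))) ψ ↔ Red (Ideal.span (Set.range F)) φ) := by
        intro p hp L _ φ hk
        refine ⟨Ideal.Quotient.lift I φ fun x hx => by
          rw [← RingHom.mem_ker, hk]; exact hp.1 hx, ?_, ?_⟩
        · rw [Ideal.Quotient.lift_mk]
          intro h
          exact hp.2 (by simpa [← hk] using h)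
        · rw [← map_span_range, red_comp]
          rfl
      rcases hd with hd | hd
      · rw [Set.inter_eq_right.2]
        · exact hcons
        intro p hp L _ φ hk
        obtain ⟨ψ, hψ, hiff⟩ := hpt p hp L φ hk
        exact hiff.1 (hd L ψ hψ)
      · convert! Topology.IsConstructible.empty
        refine Set.eq_empty_of_forall_notMem fun p hp => ?_
        obtain ⟨ψ, hψ, hiff⟩ := hpt p hp.2 _ _ (residue_ker p)
        exact hd _ ψ hψ (hiff.2 (hp.1 _ _ (residue_ker p)))
    · rw [Ideal.isPrime_iff] at hI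
      push Not at hI
      obtain ⟨a, b, hab, ha, hb⟩ := hI htop
      have : E ∩ PrimeSpectrum.zeroLocus (I : Set A) =
          (E ∩ PrimeSpectrum.zeroLocus ((I ⊔ Ideal.span {a} : Ideal A) : Set A)) ∪
            (E ∩ PrimeSpectrum.zeroLocus ((I ⊔ Ideal.span {b} : Ideal A) : Set A)) := by
        rw [← Set.inter_union_distrib_left]
        refine congrArg (E ∩ ·) (Set.ext fun p => ⟨fun hp => ?_, fun hp => ?_⟩)
        · rcases p.2.mem_or_mem (hp hab) with h | h
          · exact Or.inl (sup_le hp ((Ideal.span_singleton_le_iff_mem _).2 h) : _ ≤ p.asIdeal)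
          · exact Or.inr (sup_le hp ((Ideal.span_singleton_le_iff_mem _).2 h) : _ ≤ p.asIdeal)
        · have hI' : ∀ x : A, I ⊔ Ideal.span {x} ≤ p.asIdeal → I ≤ p.asIdeal := fun x h =>
            le_trans le_sup_left h
          exact hp.elim (fun h => hI' a h) fun h => hI' b h
      rw [this]
      exact (ih _ (hlt a ha)).union (ih _ (hlt b hb))

/-- The geometrically reduced locus of a finitely presented algebra is constructible. -/
theorem isConstructible_geomRedAt {R : Type u} [CommRing R] {N : ℕ}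
    (I : Ideal (MvPolynomial (Fin N) R)) (hI : I.FG) :
    Topology.IsConstructible {p : PrimeSpectrum R | GeomRedAt I p} := by
  classical
  obtain ⟨t, rfl⟩ := hI
  let F : Fin t.card → MvPolynomial (Fin N) R := fun j => (t.equivFin.symm j).1
  have hF : Set.range F = (t : Set (MvPolynomial (Fin N) R)) := by
    ext x
    exact ⟨fun ⟨j, hj⟩ => hj ▸ (t.equivFin.symm j).2, fun hx => ⟨t.equivFin ⟨x, hx⟩, by simp [F]⟩⟩
  obtain ⟨R₀, _, F₀, hF₀⟩ := exists_model F
  convert! (isConstructible_geomRedAt_of_isNoetherian F₀).preimage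
    (PrimeSpectrum.continuous_comap R₀.val.toRingHom) fun s hs hs' => ?_
  on_goal 2 =>
    obtain ⟨r, hr⟩ := PrimeSpectrum.isCompact_isOpen_iff.1
      ⟨(QuasiSeparatedSpace.isRetrocompact_iff_isCompact hs).1 hs', hs⟩
    rw [← hr, Set.preimage_compl, PrimeSpectrum.preimage_comap_zeroLocus]
    exact PrimeSpectrum.isRetrocompact_zeroLocus_compl (r.finite_toSet.image _)
  ext p
  simp only [Set.mem_setOf_eq, Set.mem_preimage]
  have hiff : ∀ (L : Type u) [Field L] (φ : R →+* L),
      Red (Ideal.span (t : Set (MvPolynomial (Fin N) R))) φ ↔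
        Red (Ideal.span (Set.range F₀)) (φ.comp R₀.val.toRingHom) := by
    intro L _ φ
    rw [← hF]
    unfold Red
    rw [map_span_range, map_span_range, span_map_model _ φ hF₀]
  have hker : ∀ (L : Type u) [Field L] (φ : R →+* L), RingHom.ker φ = p.asIdeal →
      RingHom.ker (φ.comp R₀.val.toRingHom) = (PrimeSpectrum.comap R₀.val.toRingHom p).asIdeal := by
    intro L _ φ hk
    rw [← RingHom.comap_ker, hk]
    rfl
  constructor
  · intro hp
    rcases all_or_none.{u, u} F₀ (PrimeSpectrum.comap R₀.val.toRingHom p) with h | h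
    · exact h
    · exact absurd ((hiff _ _).1 (hp _ _ (residue_ker p))) (h _ _ (hker _ _ (residue_ker p)))
  · intro hp L _ φ hk
    exact (hiff L φ).2 (hp L _ (hker L φ hk))

end Groth.Calg2.Uniform
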