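import Groth.Agent.Calg2.Uniform.FibresGeneric
import Groth.Agent.Flatmor4.GeomDescent
import Mathlib.AlgebraicGeometry.Morphisms.FinitePresentation
import Mathlib.AlgebraicGeometry.Morphisms.FiniteType
import Mathlib.AlgebraicGeometry.Pullbacks
import Mathlib.RingTheory.TensorProduct.MvPolynomial

/-!
# Reduced and geometrically reduced fibres of morphisms of finite type
-/

universe u

open CategoryTheory Limits AlgebraicGeometry TensorProduct

namespace Groth.Calg2.Uniform

open MvPolynomial in
theorem isReduced_tensor_iff {R K S : Type u} [CommRing R] [Field K] [Algebra R K] [CommRing S]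
    [Algebra R S] {n : ℕ} (π : MvPolynomial (Fin n) R →ₐ[R] S) (hπ : Function.Surjective π) :
    _root_.IsReduced (S ⊗[R] K) ↔ Red (RingHom.ker π.toRingHom) (algebraMap R K) := by
  let e := algebraTensorAlgEquiv (σ := Fin n) R K
  let Θ : MvPolynomial (Fin n) K →ₐ[K] K ⊗[R] S :=
    (Algebra.TensorProduct.map (AlgHom.id K K) π).comp e.symm.toAlgHom
  have hΘs : Function.Surjective Θ := by
    have h1 : Function.Surjective (Algebra.TensorProduct.map (AlgHom.id K K) π) :=
      TensorProduct.map_surjective (g := (LinearMap.id : K →ₗ[R] K)) (g' := π.toLinearMap)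
        Function.surjective_id hπ
    exact h1.comp e.symm.surjective
  have hker : RingHom.ker Θ.toRingHom =
      (RingHom.ker π.toRingHom).map (MvPolynomial.map (algebraMap R K)) := by
    refine le_antisymm (fun x hx => ?_) (Ideal.map_le_iff_le_comap.2 fun p hp => ?_)
    · have h1 : e.symm x ∈ RingHom.ker (Algebra.TensorProduct.map (AlgHom.id K K) π).toRingHom := hx
      have h2 := (Algebra.TensorProduct.lTensor_ker (A := K) π hπ).le
      have h3 : e.symm x ∈ (RingHom.ker π.toRingHom).map
          (Algebra.TensorProduct.includeRight : MvPolynomial (Fin n) R →ₐ[R] K ⊗[R] MvPolynomial (Fin n) R).toRingHom := h2 h1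
      have h4 := Ideal.mem_map_of_mem e.toRingEquiv.toRingHom h3
      rw [Ideal.map_map] at h4
      have h5 : e.toRingEquiv.toRingHom (e.symm x) = x := e.apply_symm_apply x
      rw [h5] at h4
      have h6 : e.toRingEquiv.toRingHom.comp
          (Algebra.TensorProduct.includeRight : MvPolynomial (Fin n) R →ₐ[R] K ⊗[R] MvPolynomial (Fin n) R).toRingHom =
          MvPolynomial.map (algebraMap R K) := RingHom.ext fun p =>
        (algebraTensorAlgEquiv_tmul (R := R) (A := K) (1 : K) p).trans (one_smul _ _)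
      rw [h6] at h4
      exact h4
    · rw [Ideal.mem_comap, RingHom.mem_ker]
      change Algebra.TensorProduct.map (AlgHom.id K K) π (e.symm (MvPolynomial.map (algebraMap R K) p)) = 0
      rw [show e.symm (MvPolynomial.map (algebraMap R K) p) = (1 : K) ⊗ₜ[R] p from
        algebraTensorAlgEquiv_symm_map R K p, Algebra.TensorProduct.map_tmul,
        show π p = 0 from hp, tmul_zero]
  have hiff : _root_.IsReduced (S ⊗[R] K) ↔ _root_.IsReduced (K ⊗[R] S) :=
    ⟨fun h => isReduced_of_injective (Algebra.TensorProduct.comm R K S).toRingEquiv.toRingHom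
      (Algebra.TensorProduct.comm R K S).injective, fun h =>
      isReduced_of_injective (Algebra.TensorProduct.comm R S K).toRingEquiv.toRingHom
      (Algebra.TensorProduct.comm R S K).injective⟩
  unfold Red
  rw [hiff, ← hker, Ideal.isRadical_iff_quotient_reduced]
  let q := RingHom.quotientKerEquivOfSurjective (f := Θ.toRingHom) hΘs
  exact ⟨fun h => isReduced_of_injective q.toRingHom q.injective,
    fun h => isReduced_of_injective q.symm.toRingHom q.symm.injective⟩

/-- Polynomial equations for a morphism to an affine scheme: reducedness of base changes to fields. -/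
def IsModel {R : CommRingCat.{u}} {X : Scheme.{u}} (g : X ⟶ Spec R) {m : ℕ} (n : Fin m → ℕ)
    (I : ∀ i, Ideal (MvPolynomial (Fin (n i)) R)) : Prop :=
  ∀ (K : Type u) [Field K] (φ : (R : Type u) →+* K),
    IsReduced (pullback g (Spec.map (CommRingCat.ofHom φ))) ↔ ∀ i, Red (I i) φ

theorem isReduced_pullback_affine {R : CommRingCat.{u}} {W : Scheme.{u}} [IsAffine W]
    (h : W ⟶ Spec R) [LocallyOfFiniteType h] :
    ∃ (n : ℕ) (I : Ideal (MvPolynomial (Fin n) R)),
      (LocallyOfFinitePresentation h → I.FG) ∧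
      ∀ (K : Type u) [Field K] (φ : (R : Type u) →+* K),
        IsReduced (pullback h (Spec.map (CommRingCat.ofHom φ))) ↔ Red I φ := by
  let S := Γ(W, ⊤)
  obtain ⟨ρ, hρ⟩ := Spec.map_surjective (W.isoSpec.inv ≫ h)
  let _ : Algebra R S := ρ.hom.toAlgebra
  have hft : Algebra.FiniteType R S := by
    have h1 : LocallyOfFiniteType (Spec.map ρ) := by rw [hρ]; infer_instance
    exact (HasRingHomProperty.Spec_iff (P := @LocallyOfFiniteType)).1 h1
  obtain ⟨n, π, hπ⟩ := Algebra.FiniteType.iff_quotient_mvPolynomial''.mp hft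
  refine ⟨n, RingHom.ker π.toRingHom, fun hfp => ?_, fun K _ φ => ?_⟩
  · have h1 : LocallyOfFinitePresentation (Spec.map ρ) := by rw [hρ]; infer_instance
    have h2 : Algebra.FinitePresentation R S :=
      (HasRingHomProperty.Spec_iff (P := @LocallyOfFinitePresentation)).1 h1
    exact Algebra.FinitePresentation.ker_fG_of_surjective π hπ
  · let _ : Algebra R K := φ.toAlgebra
    have e : pullback h (Spec.map (CommRingCat.ofHom φ)) ≅ Spec (.of (S ⊗[R] K)) :=
      asIso (pullback.map h (Spec.map (CommRingCat.ofHom φ)) (Spec.map ρ)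
        (Spec.map (CommRingCat.ofHom φ)) W.isoSpec.hom (𝟙 _) (𝟙 _) (by rw [hρ]; simp) (by simp)) ≪≫
        pullbackSpecIso R S K
    refine Iff.trans ?_ (isReduced_tensor_iff π hπ)
    constructor
    · intro h'
      have : IsReduced (Spec (.of (S ⊗[R] K))) := isReduced_of_isOpenImmersion e.inv
      exact (affine_isReduced_iff (.of (S ⊗[R] K))).1 this
    · intro h'
      have : IsReduced (Spec (.of (S ⊗[R] K))) := (affine_isReduced_iff (.of (S ⊗[R] K))).2 h'
      exact isReduced_of_isOpenImmersion e.hom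

theorem exists_model_scheme {R : CommRingCat.{u}} {X : Scheme.{u}} (g : X ⟶ Spec R)
    [LocallyOfFiniteType g] [QuasiCompact g] :
    ∃ (m : ℕ) (n : Fin m → ℕ) (I : ∀ i, Ideal (MvPolynomial (Fin (n i)) R)),
      (LocallyOfFinitePresentation g → ∀ i, (I i).FG) ∧ IsModel g n I := by
  have : CompactSpace X := QuasiCompact.compactSpace_of_compactSpace g
  let 𝒱 := X.affineCover.finiteSubcover
  let e : Fin (Fintype.card 𝒱.I₀) ≃ 𝒱.I₀ := (Fintype.equivFin _).symm
  have hlft : ∀ i, LocallyOfFiniteType (𝒱.f i ≫ g) := fun i => inferInstance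
  choose n I hfg hI using fun i => isReduced_pullback_affine (𝒱.f (e i) ≫ g)
  refine ⟨_, n, I, fun h i => hfg i inferInstance, fun K _ φ => ?_⟩
  let y := Spec.map (CommRingCat.ofHom φ)
  let cP := Scheme.Pullback.openCoverOfLeft 𝒱 g y
  constructor
  · intro h i
    rw [← hI i]
    exact @isReduced_of_isOpenImmersion _ _ (cP.f (e i)) (cP.map_prop (e i)) h
  · intro h
    have : ∀ j, IsReduced (cP.X j) := fun j => by
      obtain ⟨i, rfl⟩ := e.surjective j
      exact (hI i K φ).2 (h i)
    exact IsReduced.of_openCover (X := pullback g y) cP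

/-- The point of `Spec R` under a field point is the kernel. -/
theorem point_eq_ker {R : CommRingCat.{u}} {K : Type u} [Field K] (φ : (R : Type u) →+* K)
    (x : Spec (CommRingCat.of K)) :
    ((Spec.map (CommRingCat.ofHom φ)) x).asIdeal = RingHom.ker φ := by
  have : x.asIdeal = ⊥ := (Ideal.eq_bot_or_top x.asIdeal).resolve_right x.2.ne_top
  change (x.asIdeal.comap φ) = _
  rw [this]
  rfl

theorem geometricallyReduced_fiber_iff {R : CommRingCat.{u}} {X : Scheme.{u}} (g : X ⟶ Spec R)
    {m : ℕ} {n : Fin m → ℕ} {I : ∀ i, Ideal (MvPolynomial (Fin (n i)) R)} (hI : IsModel g n I)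
    (p : Spec R) :
    GeometricallyReduced (g.fiberToSpecResidueField p) ↔ ∀ i, GeomRedAt (I i) p := by
  rw [GeometricallyReduced.eq_geometrically,
    geometrically_iff_of_isClosedUnderIsomorphisms]
  constructor
  · intro h i K _ φ hφ
    suffices IsReduced (pullback g (Spec.map (CommRingCat.ofHom φ))) from (hI K φ).1 this i
    obtain ⟨⟨q, ψ⟩, hy⟩ := (Scheme.SpecToEquivOfField K (Spec R)).symm.surjective
      (Spec.map (CommRingCat.ofHom φ))
    simp only [Scheme.SpecToEquivOfField, Equiv.coe_fn_symm_mk] at hy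
    obtain rfl : q = p := by
      have h1 : (Spec.map ψ ≫ (Spec R).fromSpecResidueField q) (IsLocalRing.closedPoint K) = q := by
        rw [Scheme.Hom.comp_apply]
        exact Scheme.fromSpecResidueField_apply q _
      rw [hy] at h1
      rw [← h1]
      exact PrimeSpectrum.ext ((point_eq_ker φ _).trans hφ)
    have h2 : IsReduced (pullback (pullback.snd g ((Spec R).fromSpecResidueField q)) (Spec.map ψ)) :=
      h K (Spec.map ψ)
    rw [← hy]
    exact isReduced_of_isOpenImmersion (pullbackLeftPullbackSndIso g _ _).inv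
  · intro h K _ y
    obtain ⟨φ, hφ⟩ := Spec.map_surjective (y ≫ (Spec R).fromSpecResidueField p)
    have hker : RingHom.ker φ.hom = p.asIdeal := by
      rw [← point_eq_ker φ.hom (IsLocalRing.closedPoint K)]
      congr 1
      change (Spec.map φ) (IsLocalRing.closedPoint K) = p
      rw [hφ, Scheme.Hom.comp_apply]
      exact Scheme.fromSpecResidueField_apply p _
    have h2 := (hI K φ.hom).2 fun i => h i K φ.hom hker
    have h3 : IsReduced (pullback g (y ≫ (Spec R).fromSpecResidueField p)) :=
      isReduced_of_isOpenImmersion (pullback.congrHom (rfl : g = g) hφ.symm).hom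
    exact isReduced_of_isOpenImmersion (pullbackLeftPullbackSndIso g _ _).hom

theorem isReduced_fiber_iff {R : CommRingCat.{u}} {X : Scheme.{u}} (g : X ⟶ Spec R)
    {m : ℕ} {n : Fin m → ℕ} {I : ∀ i, Ideal (MvPolynomial (Fin (n i)) R)} (hI : IsModel g n I)
    (p : Spec R) :
    IsReduced (g.fiber p) ↔ ∀ i, Red (I i) (algebraMap R p.asIdeal.ResidueField) := by
  rw [← hI]
  have : IsIso (Spec.map (Scheme.Spec.residueFieldIso R p).hom) := inferInstance
  have hiso : IsIso (pullback.fst (pullback.snd g ((Spec R).fromSpecResidueField p))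
      (Spec.map (Scheme.Spec.residueFieldIso R p).hom)) :=
    (IsPullback.of_hasPullback _ _).isIso_fst_of_isIso
  have e : pullback g (Spec.map (CommRingCat.ofHom (algebraMap R p.asIdeal.ResidueField))) ≅ g.fiber p :=
    pullback.congrHom rfl (by
      rw [← Scheme.Spec.map_residueFieldIso_inv_eq_fromSpecResidueField, ← Category.assoc,
        ← Spec.map_comp, Iso.inv_hom_id, Spec.map_id, Category.id_comp]) ≪≫
    (pullbackLeftPullbackSndIso g ((Spec R).fromSpecResidueField p)
      (Spec.map (Scheme.Spec.residueFieldIso R p).hom)).symm ≪≫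
    @asIso _ _ _ _ _ hiso
  exact ⟨fun h => isReduced_of_isOpenImmersion e.hom, fun h => isReduced_of_isOpenImmersion e.inv⟩

section Base

variable {X Y : Scheme.{u}} (f : X ⟶ Y)

theorem geomRed_fiber_iff_baseChange {Y' : Scheme.{u}} (i : Y' ⟶ Y) (y' : Y') :
    GeometricallyReduced ((pullback.snd f i).fiberToSpecResidueField y') ↔
      GeometricallyReduced (f.fiberToSpecResidueField (i y')) := by
  simp only [GeometricallyReduced.eq_geometrically]
  exact Flatmor4.fibre_iff_of_isPullback (fun q => Flatmor4.isReduced_of_flat_of_surjective q) f i _ _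
    (IsPullback.of_hasPullback f i) y'

theorem isReduced_fiber_iff_baseChange {Y' : Scheme.{u}} (i : Y' ⟶ Y) [IsOpenImmersion i] (y' : Y') :
    IsReduced ((pullback.snd f i).fiber y') ↔ IsReduced (f.fiber (i y')) := by
  have H := isPullback_fiberToSpecResidueField_of_isPullback (IsPullback.of_hasPullback f i) y'
  have h1 := H.isIso_fst_of_isIso
  let e := @asIso _ _ _ _ _ h1
  exact ⟨fun h => @isReduced_of_isOpenImmersion _ _ e.inv inferInstance h,
    fun h => @isReduced_of_isOpenImmersion _ _ e.hom inferInstance h⟩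

/-- The fibres in a nonempty open of the base, from a nonzero element of the reduced coordinate ring. -/
theorem exists_open {U : Y.Opens} (hU : IsAffineOpen U) [(nilradical Γ(Y, U)).IsPrime]
    (a : (Γ(Y, U) : Type u) ⧸ nilradical Γ(Y, U)) (ha : a ≠ 0) :
    ∃ V : Y.Opens, (V : Set Y).Nonempty ∧ ∀ y ∈ V, ∃ p : Spec Γ(Y, U), hU.fromSpec p = y ∧
      ∀ (K : Type u) [Field K] (φ : (Γ(Y, U) : Type u) →+* K), RingHom.ker φ = p.asIdeal →
        ∃ ψ : (Γ(Y, U) : Type u) ⧸ nilradical Γ(Y, U) →+* K,
          ψ a ≠ 0 ∧ ψ.comp (Ideal.Quotient.mk _) = φ := by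
  obtain ⟨a, rfl⟩ := Ideal.Quotient.mk_surjective a
  refine ⟨hU.fromSpec ''ᵁ PrimeSpectrum.basicOpen a, ?_, ?_⟩
  · refine ⟨hU.fromSpec ⟨nilradical Γ(Y, U), inferInstance⟩, ⟨_, ?_, rfl⟩⟩
    exact fun h => ha (Ideal.Quotient.eq_zero_iff_mem.2 h)
  · rintro y ⟨p, hp, rfl⟩
    refine ⟨p, rfl, fun K _ φ hφ => ⟨Ideal.Quotient.lift _ φ fun x hx => ?_, ?_, RingHom.ext fun _ => rfl⟩⟩
    · rw [← RingHom.mem_ker, hφ]
      exact nilradical_le_prime p.asIdeal hx
    · rw [Ideal.Quotient.lift_mk]
      intro h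
      exact hp (by rw [← hφ]; exact h)

theorem nilradical_isPrime_of_irreducible [IrreducibleSpace Y] {U : Y.Opens} (hU : IsAffineOpen U)
    (hne : (U : Set Y).Nonempty) : (nilradical Γ(Y, U)).IsPrime := by
  have hmem : genericPoint Y ∈ (U : Set Y) :=
    ((genericPoint_spec Y).mem_open_set_iff U.2).2 (by simpa using hne)
  rw [← hU.range_fromSpec] at hmem
  obtain ⟨x, hx⟩ := hmem
  have hcl : closure ({x} : Set (PrimeSpectrum Γ(Y, U))) = Set.univ := by
    refine Set.eq_univ_of_forall fun z => ?_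
    refine (specializes_iff_mem_closure (x := (x : PrimeSpectrum Γ(Y, U)))).1 ?_
    refine hU.fromSpec.isOpenEmbedding.isInducing.specializes_iff.1 ?_
    rw [hx]
    exact (genericPoint_spec Y).specializes trivial
  have hnil : nilradical Γ(Y, U) = x.asIdeal := by
    rw [← PrimeSpectrum.vanishingIdeal_univ, ← hcl, PrimeSpectrum.vanishingIdeal_closure]
    exact PrimeSpectrum.vanishingIdeal_singleton (x : PrimeSpectrum Γ(Y, U))
  rw [hnil]
  exact x.2

/-- The generic point in an affine open. -/
theorem fromSpec_nilradical [IrreducibleSpace Y] {U : Y.Opens} (hU : IsAffineOpen U)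
    [hp : (nilradical Γ(Y, U)).IsPrime] :
    hU.fromSpec ⟨nilradical Γ(Y, U), hp⟩ = genericPoint Y := by
  let q : Spec Γ(Y, U) := ⟨nilradical Γ(Y, U), hp⟩
  have hgen : ∀ x : Spec Γ(Y, U), q ⤳ x := fun x =>
    (PrimeSpectrum.le_iff_specializes q x).1 (nilradical_le_prime x.asIdeal)
  refine IsGenericPoint.eq (S := (⊤ : Set Y)) ?_ (genericPoint_spec Y)
  refine Set.eq_univ_of_univ_subset ?_
  rw [← (genericPoint_spec Y).def]
  refine closure_minimal (Set.singleton_subset_iff.2 ?_) isClosed_closure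
  have hmem : genericPoint Y ∈ (U : Set Y) :=
    ((genericPoint_spec Y).mem_open_set_iff U.2).2
      ⟨hU.fromSpec q, trivial, hU.range_fromSpec.le ⟨q, rfl⟩⟩
  rw [← hU.range_fromSpec] at hmem
  obtain ⟨x, hx⟩ := hmem
  rw [← hx, ← specializes_iff_mem_closure]
  exact (hgen x).map hU.fromSpec.continuous

end Base

end Groth.Calg2.Uniform

namespace Groth.Calg2.Uniform

/-- Reducedness descends along field extensions. -/
theorem red_of_comp {R : Type u} [CommRing R] {N : ℕ} {I : Ideal (MvPolynomial (Fin N) R)}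
    {L L' : Type u} [Field L] [Field L'] (h : L →+* L') (φ : R →+* L) (hr : Red I (h.comp φ)) :
    Red I φ := by
  refine isRadical_of_isRadical_map h ?_
  have h1 : (MvPolynomial.map h).comp (MvPolynomial.map φ) =
      (MvPolynomial.map (h.comp φ) : MvPolynomial (Fin N) R →+* MvPolynomial (Fin N) L') :=
    RingHom.ext fun p => MvPolynomial.map_map φ h p
  rw [Ideal.map_map, h1]
  exact hr

section Main

variable {X Y : Scheme.{u}} (f : X ⟶ Y) [IrreducibleSpace Y] [LocallyOfFiniteType f] [QuasiCompact f]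

theorem exists_open_geometricallyReduced
    (h : GeometricallyReduced (f.fiberToSpecResidueField (genericPoint Y))) :
    ∃ V : Y.Opens, (V : Set Y).Nonempty ∧ GeometricallyReduced (f ∣_ V) := by
  obtain ⟨_, ⟨U, hU, rfl⟩, hη, -⟩ :=
    Y.isBasis_affineOpens.exists_subset_of_mem_open (Set.mem_univ (genericPoint Y)) isOpen_univ
  have hprime := nilradical_isPrime_of_irreducible hU ⟨_, hη⟩
  let g := pullback.snd f hU.fromSpec
  obtain ⟨m, n, I, -, hI⟩ := exists_model_scheme g
  let q : Spec Γ(Y, U) := ⟨nilradical Γ(Y, U), hprime⟩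
  have hq : ∀ i, GeomRedAt (I i) q := by
    rw [← geometricallyReduced_fiber_iff g hI, geomRed_fiber_iff_baseChange, fromSpec_nilradical hU]
    exact h
  let mk := Ideal.Quotient.mk (nilradical Γ(Y, U))
  choose a ha hd using fun i => exists_dichotomy_domain.{u, u} ((I i).map (MvPolynomial.map mk))
  obtain ⟨V, hne, hV⟩ := exists_open hU (∏ i, a i) (Finset.prod_ne_zero_iff.2 fun i _ => ha i)
  refine ⟨V, hne, ?_⟩
  have hfib : ∀ y ∈ V, GeometricallyReduced (f.fiberToSpecResidueField y) := by
    intro y hy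
    obtain ⟨p, rfl, hp⟩ := hV y hy
    rw [← geomRed_fiber_iff_baseChange, geometricallyReduced_fiber_iff _ hI]
    intro i K _ φ hφ
    obtain ⟨ψ, hψ, rfl⟩ := hp K φ hφ
    rw [map_prod, Finset.prod_ne_zero_iff] at hψ
    rw [← red_comp]
    rcases hd i with hd' | hd'
    · exact hd' K ψ (hψ i (Finset.mem_univ i))
    · exfalso
      let L := AlgebraicClosure q.asIdeal.ResidueField
      let χ : (Γ(Y, U) : Type u) →+* L :=
        (algebraMap q.asIdeal.ResidueField L).comp (algebraMap _ q.asIdeal.ResidueField)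
      have hχ : RingHom.ker χ = q.asIdeal := residue_ker q
      let χ' := Ideal.Quotient.lift (nilradical Γ(Y, U)) χ fun x hx => by
        rw [← RingHom.mem_ker, hχ]; exact hx
      refine hd' L χ' ?_ ((red_comp _ _ _).2 (hq i L _ hχ))
      intro h0
      obtain ⟨b, hb⟩ := Ideal.Quotient.mk_surjective (a i)
      rw [← hb, Ideal.Quotient.lift_mk, ← RingHom.mem_ker, hχ] at h0
      exact ha i (hb ▸ Ideal.Quotient.eq_zero_iff_mem.2 h0)
  rw [GeometricallyReduced.eq_geometrically, geometrically_iff_forall_fiberToSpecResidueField]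
  intro y
  rw [Flatmor4.fibre_iff_of_isPullback (fun q => Flatmor4.isReduced_of_flat_of_surjective q) f V.ι
    (f ∣_ V) (f ⁻¹ᵁ V).ι (isPullback_morphismRestrict f V).flip y]
  have := hfib (V.ι y) y.2
  rwa [GeometricallyReduced.eq_geometrically] at this

theorem exists_open_not_geometricallyReduced
    (h : ¬ GeometricallyReduced (f.fiberToSpecResidueField (genericPoint Y))) :
    ∃ V : Y.Opens, (V : Set Y).Nonempty ∧ ∀ y ∈ V,
      ¬ GeometricallyReduced (f.fiberToSpecResidueField y) := by
  obtain ⟨_, ⟨U, hU, rfl⟩, hη, -⟩ :=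
    Y.isBasis_affineOpens.exists_subset_of_mem_open (Set.mem_univ (genericPoint Y)) isOpen_univ
  have hprime := nilradical_isPrime_of_irreducible hU ⟨_, hη⟩
  let g := pullback.snd f hU.fromSpec
  obtain ⟨m, n, I, -, hI⟩ := exists_model_scheme g
  let q : Spec Γ(Y, U) := ⟨nilradical Γ(Y, U), hprime⟩
  rw [← fromSpec_nilradical hU, ← geomRed_fiber_iff_baseChange,
    geometricallyReduced_fiber_iff _ hI] at h
  push Not at h
  obtain ⟨i, hi⟩ := h
  simp only [GeomRedAt, not_forall] at hi
  obtain ⟨L, _, φ, hφ, hbad⟩ := hi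
  let mk := Ideal.Quotient.mk (nilradical Γ(Y, U))
  obtain ⟨a, ha, hd⟩ := exists_dichotomy_domain.{u, u} ((I i).map (MvPolynomial.map mk))
  have hd' := hd.resolve_left fun hd' => by
    let φ' := Ideal.Quotient.lift (nilradical Γ(Y, U)) φ fun x hx => by
      rw [← RingHom.mem_ker, hφ]; exact hx
    refine hbad ((red_comp _ mk φ').1 (hd' L φ' ?_))
    intro h0
    obtain ⟨b, hb⟩ := Ideal.Quotient.mk_surjective a
    rw [← hb, Ideal.Quotient.lift_mk, ← RingHom.mem_ker, hφ] at h0
    exact ha (hb ▸ Ideal.Quotient.eq_zero_iff_mem.2 h0)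
  obtain ⟨V, hne, hV⟩ := exists_open hU a ha
  refine ⟨V, hne, fun y hy hgr => ?_⟩
  obtain ⟨p, rfl, hp⟩ := hV y hy
  rw [← geomRed_fiber_iff_baseChange, geometricallyReduced_fiber_iff _ hI] at hgr
  obtain ⟨ψ, hψ, hψ'⟩ := hp _ _ (residue_ker p)
  refine hd' _ ψ hψ ((red_comp _ _ _).2 ?_)
  rw [hψ']
  exact hgr i _ _ (residue_ker p)

theorem exists_open_not_isReduced (h : ¬ IsReduced (f.fiber (genericPoint Y))) :
    ∃ V : Y.Opens, (V : Set Y).Nonempty ∧ ∀ y ∈ V, ¬ IsReduced (f.fiber y) := by
  obtain ⟨_, ⟨U, hU, rfl⟩, hη, -⟩ :=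
    Y.isBasis_affineOpens.exists_subset_of_mem_open (Set.mem_univ (genericPoint Y)) isOpen_univ
  have hprime := nilradical_isPrime_of_irreducible hU ⟨_, hη⟩
  let g := pullback.snd f hU.fromSpec
  obtain ⟨m, n, I, -, hI⟩ := exists_model_scheme g
  rw [← fromSpec_nilradical hU, ← isReduced_fiber_iff_baseChange, isReduced_fiber_iff _ hI] at h
  push Not at h
  obtain ⟨i, hi⟩ := h
  let Q := nilradical Γ(Y, U)
  let mk := Ideal.Quotient.mk Q
  obtain ⟨a, ha, hd⟩ := exists_not_red_of_fractionRing.{u, u} ((I i).map (MvPolynomial.map mk)) (fun hr => hi (by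
    let j : Q.ResidueField →+* FractionRing ((Γ(Y, U) : Type u) ⧸ Q) :=
      IsFractionRing.lift (g := algebraMap ((Γ(Y, U) : Type u) ⧸ Q) (FractionRing ((Γ(Y, U) : Type u) ⧸ Q)))
        (IsFractionRing.injective _ _)
    have hj : j.comp (algebraMap _ Q.ResidueField) =
        (algebraMap ((Γ(Y, U) : Type u) ⧸ Q) (FractionRing ((Γ(Y, U) : Type u) ⧸ Q))).comp mk :=
      RingHom.ext fun x => by
        rw [RingHom.comp_apply, RingHom.comp_apply,
          IsScalarTower.algebraMap_apply (Γ(Y, U) : Type u) ((Γ(Y, U) : Type u) ⧸ Q) Q.ResidueField]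
        exact IsFractionRing.lift_algebraMap _ _
    refine red_of_comp j (algebraMap _ Q.ResidueField) ?_
    rw [hj, ← red_comp]
    exact hr))
  obtain ⟨V, hne, hV⟩ := exists_open hU a ha
  refine ⟨V, hne, fun y hy hr => ?_⟩
  obtain ⟨p, rfl, hp⟩ := hV y hy
  rw [← isReduced_fiber_iff_baseChange, isReduced_fiber_iff _ hI] at hr
  obtain ⟨ψ, hψ, hψ'⟩ := hp p.asIdeal.ResidueField (algebraMap _ _) (Ideal.ker_algebraMap_residueField p.asIdeal)
  refine hd _ ψ hψ ((red_comp _ _ _).2 ?_)
  rw [hψ']
  exact hr i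

omit [IrreducibleSpace Y] in
theorem isLocallyConstructible_geometricallyReduced [LocallyOfFinitePresentation f] :
    Topology.IsLocallyConstructible {y : Y | GeometricallyReduced (f.fiberToSpecResidueField y)} := by
  intro x
  obtain ⟨_, ⟨U, hU, rfl⟩, hx, -⟩ :=
    Y.isBasis_affineOpens.exists_subset_of_mem_open (Set.mem_univ x) isOpen_univ
  refine ⟨U, U.2.mem_nhds hx, U.2, ?_⟩
  obtain ⟨m, n, I, hfg, hI⟩ := exists_model_scheme (pullback.snd f hU.fromSpec)
  let E : Set (Spec Γ(Y, U)) := {p | ∀ i, GeomRedAt (I i) p}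
  have hE : Topology.IsConstructible E := by
    have h1 : E = ⋂ i ∈ (Finset.univ : Finset (Fin m)), {p | GeomRedAt (I i) p} :=
      Set.ext fun p => ⟨fun h => Set.mem_iInter₂.2 fun i _ => h i,
        fun h i => Set.mem_iInter₂.1 h i (Finset.mem_univ i)⟩
    rw [h1]
    exact Topology.IsConstructible.biInter (Finset.finite_toSet _)
      fun i _ => isConstructible_geomRedAt (I i) (hfg inferInstance i)
  have hpre := (IsAffineOpen.isoSpec hU).hom.isConstructible_preimage hE
  convert! hpre
  ext z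
  change GeometricallyReduced (f.fiberToSpecResidueField (Scheme.Opens.ι U z)) ↔ _
  have h2 : hU.fromSpec ((IsAffineOpen.isoSpec hU).hom z) = Scheme.Opens.ι U z := by
    rw [← Scheme.Hom.comp_apply, hU.isoSpec_hom_fromSpec]
  rw [← h2, ← geomRed_fiber_iff_baseChange, geometricallyReduced_fiber_iff _ hI]
  rfl

end Main

end Groth.Calg2.Uniform
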