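import Groth.Agent.Calg2.Uniform.Cert
import Groth.Agent.Calg2.Uniform.Coord
import Mathlib.FieldTheory.IsAlgClosed.AlgebraicClosure
import Mathlib.FieldTheory.IntermediateField.Adjoin.Basic
import Mathlib.RingTheory.Ideal.GoingUp
import Mathlib.RingTheory.Localization.Integral
import Mathlib.RingTheory.Algebraic.Integral

/-!
# Radicals of specialisations: generic bound
-/

universe u v

namespace Groth.Calg2.Uniform

open MvPolynomial

/-- An integral extension of domains maps to any algebraically closed field extending a given map. -/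
theorem exists_extend_hom {R B Ω : Type*} [CommRing R] [CommRing B] [IsDomain B] [Algebra R B]
    [Algebra.IsIntegral R B] (hinj : Function.Injective (algebraMap R B)) [Field Ω] [IsAlgClosed Ω]
    (θ : R →+* Ω) : ∃ ψ : B →+* Ω, ψ.comp (algebraMap R B) = θ := by
  let P := RingHom.ker θ
  have : P.IsPrime := RingHom.ker_isPrime θ
  obtain ⟨Q, hQ, hQP⟩ := Ideal.exists_ideal_over_prime_of_isIntegral_of_isDomain (S := B) P
    (by rw [(RingHom.injective_iff_ker_eq_bot _).1 hinj]; exact bot_le)
  have : Q.LiesOver P := ⟨hQP.symm⟩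
  let _ : Algebra (R ⧸ P) Ω := (RingHom.kerLift θ).toAlgebra
  have hmin : Function.Injective (algebraMap (R ⧸ P) (B ⧸ Q)) := by
    rw [injective_iff_map_eq_zero]
    intro x hx
    obtain ⟨x, rfl⟩ := Ideal.Quotient.mk_surjective x
    rw [Ideal.Quotient.algebraMap_mk_of_liesOver, Ideal.Quotient.eq_zero_iff_mem] at hx
    rw [Ideal.Quotient.eq_zero_iff_mem, ← hQP]
    exact hx
  have : Module.IsTorsionFree (R ⧸ P) (B ⧸ Q) := Module.isTorsionFree_iff_algebraMap_injective.2 hmin
  have : Module.IsTorsionFree (R ⧸ P) Ω :=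
    Module.isTorsionFree_iff_algebraMap_injective.2 (RingHom.kerLift_injective θ)
  have : Algebra.IsIntegral (R ⧸ P) (B ⧸ Q) := ⟨fun y => by
    obtain ⟨y, rfl⟩ := Ideal.Quotient.mk_surjective y
    obtain ⟨p, hp, hp0⟩ := Algebra.IsIntegral.isIntegral (R := R) y
    refine ⟨p.map (Ideal.Quotient.mk P), hp.map _, ?_⟩
    rw [Polynomial.eval₂_map, show (algebraMap (R ⧸ P) (B ⧸ Q)).comp (Ideal.Quotient.mk P) =
      (Ideal.Quotient.mk Q).comp (algebraMap R B) from
        RingHom.ext fun r => Ideal.Quotient.algebraMap_mk_of_liesOver Q P r]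
    rw [← Polynomial.hom_eval₂, hp0, map_zero]⟩
  let l : (B ⧸ Q) →ₐ[R ⧸ P] Ω := IsAlgClosed.lift
  refine ⟨l.toRingHom.comp (Ideal.Quotient.mk Q), RingHom.ext fun r => ?_⟩
  change l (Ideal.Quotient.mk Q (algebraMap R B r)) = θ r
  rw [← Ideal.Quotient.algebraMap_mk_of_liesOver Q P, AlgHom.commutes]
  rfl

variable {A : Type u} [CommRing A] {K : Type v} [CommRing K] [Algebra A K] {τ : Type*}

open Classical in
/-- The coefficients of a polynomial. -/
noncomputable def cfs (p : MvPolynomial τ K) : Finset K := p.support.image p.coeff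

theorem exists_lift_poly (p : MvPolynomial τ K) (B : Subalgebra A K) (h : (cfs p : Set K) ⊆ B) :
    ∃ q : MvPolynomial τ B, MvPolynomial.map B.val.toRingHom q = p := by
  classical
  refine ⟨∑ m ∈ p.support.attach, monomial m.1 ⟨p.coeff m.1, h (Finset.mem_image.2 ⟨m.1, m.2, rfl⟩)⟩, ?_⟩
  rw [map_sum]
  simp only [map_monomial]
  conv_rhs => rw [p.as_sum, ← Finset.sum_attach]
  rfl

theorem map_val_injective (B : Subalgebra A K) :
    Function.Injective (MvPolynomial.map (σ := τ) B.val.toRingHom) :=
  map_injective _ Subtype.val_injective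

theorem exists_descend {ι : Type*} [Fintype ι] {x : MvPolynomial τ K} {H : ι → MvPolynomial τ K}
    (hx : x ∈ Ideal.span (Set.range H)) :
    ∃ T : Finset K, ∀ B : Subalgebra A K, (T : Set K) ⊆ B →
      ∀ (x' : MvPolynomial τ B) (H' : ι → MvPolynomial τ B), MvPolynomial.map B.val.toRingHom x' = x →
        (∀ i, MvPolynomial.map B.val.toRingHom (H' i) = H i) → x' ∈ Ideal.span (Set.range H') := by
  classical
  obtain ⟨d, hd⟩ := Ideal.mem_span_range_iff_exists_fun.1 hx
  refine ⟨Finset.univ.biUnion fun i => cfs (d i), fun B hB x' H' hx' hH' => ?_⟩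
  choose d' hd' using fun i => exists_lift_poly (d i) B
    ((Finset.coe_subset.2 (Finset.subset_biUnion_of_mem (fun i => cfs (d i)) (Finset.mem_univ i))).trans hB)
  refine Ideal.mem_span_range_iff_exists_fun.2 ⟨d', map_val_injective B ?_⟩
  rw [map_sum, hx', ← hd]
  simp only [map_mul, hd', hH']

/-- **Generic bound for radicals.** -/
theorem generic_radical {A : Type} [CommRing A] [IsDomain A] [IsNoetherianRing A] {N c : ℕ}
    (F : Fin c → MvPolynomial (Fin N) A) :
    ∃ f : A, f ≠ 0 ∧ ∃ D : ℕ, ∀ (k : Type u) [Field k] (φ : A →+* k), φ f ≠ 0 →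
      Ideal.span {z : MvPolynomial (Fin N) k |
          z ∈ (Ideal.span (Set.range fun j => MvPolynomial.map φ (F j))).radical ∧ z.totalDegree ≤ D} =
        (Ideal.span (Set.range fun j => MvPolynomial.map φ (F j))).radical := by
  classical
  let K := AlgebraicClosure (FractionRing A)
  have halg : Algebra.IsAlgebraic A K := by
    have : Algebra.IsAlgebraic A (FractionRing A) := IsLocalization.isAlgebraic _ (nonZeroDivisors A)
    exact Algebra.IsAlgebraic.trans A (FractionRing A) K
  have hAK : Function.Injective (algebraMap A K) := by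
    rw [IsScalarTower.algebraMap_eq A (FractionRing A) K, RingHom.coe_comp]
    exact (RingHom.injective _).comp (IsFractionRing.injective A (FractionRing A))
  let FK : Fin c → MvPolynomial (Fin N) K := fun j => MvPolynomial.map (algebraMap A K) (F j)
  obtain ⟨s, G, b, e, t, hC, hnzd⟩ := exists_cert FK
  -- the first stage
  let T₀ : Finset K := (Finset.univ.biUnion fun i => cfs (G i)) ∪ cfs b
  let B₀ : Subalgebra A K := Algebra.adjoin A (T₀ : Set K)
  have : Algebra.FiniteType A B₀ :=
    (Subalgebra.fg_iff_finiteType _).1 (Subalgebra.fg_adjoin_finset T₀)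
  have : IsNoetherianRing B₀ := Algebra.FiniteType.isNoetherianRing A B₀
  choose G₀ hG₀ using fun i => exists_lift_poly (G i) B₀ fun x hx => Algebra.subset_adjoin
    (Finset.mem_coe.2 (Finset.mem_union_left _ (Finset.mem_biUnion.2 ⟨i, Finset.mem_univ i, hx⟩)))
  obtain ⟨b₀, hb₀⟩ := exists_lift_poly b B₀ fun x hx => Algebra.subset_adjoin
    (Finset.mem_coe.2 (Finset.mem_union_right _ hx))
  obtain ⟨g, V, hg, hV, hgen⟩ := exists_generic_syzygies.{0, u}
    (fun _ : Fin 1 => (Fin.cons b₀ G₀ : Fin (s + 1) → MvPolynomial (Fin N) B₀))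
  have hV0 : ∀ v : V, MvPolynomial.map B₀.val.toRingHom (v.1 0) ∈ Ideal.span (Set.range G) := by
    intro v
    refine hnzd _ ?_
    have h1 := congrArg (MvPolynomial.map B₀.val.toRingHom) (hV v.1 v.2 0)
    rw [Fin.sum_univ_succ] at h1
    simp only [Fin.cons_zero, Fin.cons_succ, map_add, map_mul, map_sum, map_zero, hb₀, hG₀] at h1
    rw [eq_neg_of_add_eq_zero_left h1]
    exact neg_mem (Ideal.sum_mem _ fun i _ => Ideal.mul_mem_right _ _
      (Ideal.subset_span (Set.mem_range_self i)))
  -- the witnesses
  choose T₁ hT₁ using fun j => exists_descend (A := A) (hC.mem j)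
  choose T₂ hT₂ using fun i => exists_descend (A := A) (hC.pow_mem i)
  choose T₃ hT₃ using fun o => exists_descend (A := A) (hC.aeval_mem o)
  choose T₄ hT₄ using fun o => exists_descend (A := A) (hC.sub_mem o)
  choose T₅ hT₅ using fun v => exists_descend (A := A) (hV0 v)
  let T : Finset K := T₀ ∪ {((g : K))⁻¹} ∪ (Finset.univ.biUnion fun o => cfs (t o)) ∪
    Finset.univ.biUnion T₁ ∪ Finset.univ.biUnion T₂ ∪ Finset.univ.biUnion T₃ ∪
    Finset.univ.biUnion T₄ ∪ Finset.univ.biUnion T₅
  obtain ⟨f, hf, hint⟩ := Algebra.IsAlgebraic.exists_integral_multiples (R := A) (A := K) T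
  let A' := Localization.Away f
  have hfK : IsUnit (algebraMap A K f) := Ne.isUnit fun h => hf (hAK (h.trans (map_zero _).symm))
  let _ : Algebra A' K := (IsLocalization.Away.lift f hfK : A' →+* K).toAlgebra
  have : IsScalarTower A A' K := IsScalarTower.of_algebraMap_eq fun a =>
    (IsLocalization.Away.lift_eq f hfK a).symm
  have hA'K : Function.Injective (algebraMap A' K) :=
    (IsLocalization.lift_injective_iff _).2 fun x y => ⟨fun h => congrArg _ (by
      have h1 : x = y := IsLocalization.injective A'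
        (powers_le_nonZeroDivisors_of_noZeroDivisors hf) h
      exact h1), fun h => congrArg _ (hAK h)⟩
  let B : Subalgebra A' K := Algebra.adjoin A' (T : Set K)
  have hfg : B.toSubmodule.FG := fg_adjoin_of_finite T.finite_toSet fun x hx => by
    have h1 : IsIntegral A' (f • x) := (hint x hx).tower_top
    have h2 := h1.smul (IsLocalization.Away.invSelf (S := A') f)
    rwa [← algebraMap_smul A' f x, smul_smul, mul_comm, IsLocalization.Away.mul_invSelf,
      one_smul] at h2
  have hfin : Module.Finite A' B := ⟨(Submodule.fg_top _).2 hfg⟩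
  obtain ⟨W, hW⟩ := Module.Finite.fg_top (R := A') (M := B)
  let BA : Subalgebra A K := B.restrictScalars A
  have hTB : (T : Set K) ⊆ BA := fun x hx => Algebra.subset_adjoin hx
  simp only [T, Finset.coe_union, Finset.coe_biUnion, Set.union_subset_iff, Set.iUnion_subset_iff,
    Finset.coe_univ, Set.mem_univ, forall_true_left] at hTB
  obtain ⟨⟨⟨⟨⟨⟨⟨hB0, hBg⟩, hBt⟩, hB1⟩, hB2⟩, hB3⟩, hB4⟩, hB5⟩ := hTB
  let incl : B₀ →ₐ[A] BA := Subalgebra.inclusion (Algebra.adjoin_le hB0)
  have hincl : ∀ {τ : Type} (p : MvPolynomial τ B₀), MvPolynomial.map BA.val.toRingHom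
      (MvPolynomial.map incl.toRingHom p) = MvPolynomial.map B₀.val.toRingHom p := fun p => by
    rw [MvPolynomial.map_map]; rfl
  let GB := fun i => MvPolynomial.map incl.toRingHom (G₀ i)
  let bB := MvPolynomial.map incl.toRingHom b₀
  let FB := fun j => MvPolynomial.map (algebraMap A BA) (F j)
  have hGB : ∀ i, MvPolynomial.map BA.val.toRingHom (GB i) = G i := fun i => (hincl _).trans (hG₀ i)
  have hbB : MvPolynomial.map BA.val.toRingHom bB = b := (hincl _).trans hb₀
  have hFB : ∀ j, MvPolynomial.map BA.val.toRingHom (FB j) = FK j := fun j => by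
    simp only [FB, FK, MvPolynomial.map_map]; rfl
  choose tB htB using fun o => exists_lift_poly (t o) BA (hBt o)
  have hgens : ∀ o, MvPolynomial.map BA.val.toRingHom (gensAway GB bB o) = gensAway G b o := fun o => by
    rw [← gensAway_map, hbB, funext hGB]
  have hCB : Cert FB GB bB e tB := by
    refine ⟨fun j => hT₁ j BA (hB1 j) _ _ (hFB j) hGB, fun i => hT₂ i BA (hB2 i) _ _ (by
      rw [map_pow, hGB]) hFB, fun o => hT₃ o BA (hB3 o) _ _ ?_ (fun p => by rw [map_mul, hgens, hgens]),
      fun o => hT₄ o BA (hB4 o) _ _ (by rw [map_sub, htB, map_X]) hgens⟩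
    rw [← hgens]
    have h2 : (aeval t).toRingHom.comp (MvPolynomial.map BA.val.toRingHom) =
        (MvPolynomial.map BA.val.toRingHom).comp (aeval tB).toRingHom :=
      MvPolynomial.ringHom_ext (fun r => by simp) fun i => by simpa using (htB i).symm
    exact (DFunLike.congr_fun h2 _).symm
  let D₀ := Finset.univ.sup fun i => (G₀ i).totalDegree
  choose Dr hDr using fun r => exists_contraction_bound.{u} N s r D₀
  refine ⟨f, hf, (Finset.range (W.card + 1)).sup Dr, fun k _ φ hφ => ?_⟩
  let Ω := AlgebraicClosure k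
  let θ : A' →+* Ω := (algebraMap k Ω).comp (IsLocalization.Away.lift f (Ne.isUnit hφ))
  have : Algebra.IsIntegral A' B := inferInstance
  obtain ⟨ψ, hψ⟩ := exists_extend_hom (R := A') (B := B)
    (fun x y h => hA'K (congrArg B.val h)) θ
  let L := IntermediateField.adjoin k (Set.range ψ)
  have hLd : L.toSubalgebra.toSubmodule ≤ Submodule.span k (ψ '' (W : Set B)) := by
    rw [IntermediateField.adjoin_toSubalgebra,
      Algebra.adjoin_eq_span]
    refine Submodule.span_le.2 fun x hx => ?_
    have hx' : x ∈ Set.range ψ := by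
      have : Submonoid.closure (Set.range ψ) ≤ MonoidHom.mrange ψ.toMonoidHom :=
        Submonoid.closure_le.2 fun y hy => hy
      exact this hx
    obtain ⟨y, rfl⟩ := hx'
    clear hx
    have hy : y ∈ Submodule.span A' (W : Set B) := hW.symm ▸ Submodule.mem_top
    induction hy using Submodule.span_induction with
    | mem y hy => exact Submodule.subset_span ⟨y, hy, rfl⟩
    | zero => rw [map_zero]; exact zero_mem _
    | add y y' _ _ h h' => rw [map_add]; exact add_mem h h'
    | smul a y _ h =>
      rw [Algebra.smul_def, map_mul, ← RingHom.comp_apply ψ, hψ, RingHom.comp_apply, ← Algebra.smul_def]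
      exact Submodule.smul_mem _ _ h
  have hfinL : FiniteDimensional k L.toSubalgebra.toSubmodule := by
    have : FiniteDimensional k (Submodule.span k (ψ '' (W : Set B))) :=
      FiniteDimensional.span_of_finite k (W.finite_toSet.image ψ)
    exact Submodule.finiteDimensional_of_le hLd
  have hfinL' : FiniteDimensional k L := hfinL
  have hrank : Module.finrank k L < W.card + 1 := by
    refine Nat.lt_succ_of_le ?_
    have : FiniteDimensional k (Submodule.span k (ψ '' (W : Set B))) :=
      FiniteDimensional.span_of_finite k (W.finite_toSet.image ψ)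
    refine (Submodule.finrank_mono hLd).trans ?_
    rw [← Finset.coe_image]
    exact (finrank_span_finset_le_card _).trans Finset.card_image_le
  let ψL : BA →+* L :=
    { toFun := fun x => ⟨ψ x, IntermediateField.subset_adjoin k _ ⟨x, rfl⟩⟩
      map_one' := Subtype.ext (map_one ψ)
      map_mul' := fun x y => Subtype.ext (map_mul ψ x y)
      map_zero' := Subtype.ext (map_zero ψ)
      map_add' := fun x y => Subtype.ext (map_add ψ x y) }
  let χ : B₀ →+* L := ψL.comp incl.toRingHom
  have hψA : ∀ a, ψL (algebraMap A BA a) = algebraMap k L (φ a) := fun a => by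
    refine Subtype.ext ?_
    have h1 := DFunLike.congr_fun hψ (algebraMap A A' a)
    simp only [θ, RingHom.comp_apply, IsLocalization.Away.lift_eq] at h1
    refine Eq.trans ?_ h1
    exact congrArg ψ (Subtype.ext (IsScalarTower.algebraMap_apply A A' K a))
  have hgu : IsUnit (χ g) := by
    refine IsUnit.map ψL (IsUnit.of_mul_eq_one (⟨((g : K))⁻¹, hBg (by simp)⟩ : BA) (Subtype.ext ?_))
    exact mul_inv_cancel₀ fun h => hg (Subtype.ext h)
  let GX := fun i => MvPolynomial.map χ (G₀ i)
  have hGL : (fun i => MvPolynomial.map ψL (GB i)) = GX := funext fun i => MvPolynomial.map_map _ _ _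
  have hnz : ∀ z, MvPolynomial.map χ b₀ * z ∈ Ideal.span (Set.range GX) → z ∈ Ideal.span (Set.range GX) := by
    intro z hz
    obtain ⟨d, hd⟩ := Ideal.mem_span_range_iff_exists_fun.1 hz
    have hgx := hgen L χ hgu (Fin.cons z fun i => - d i) (fun _ => by
      rw [Fin.sum_univ_succ]
      simp only [Fin.cons_zero, Fin.cons_succ, mul_neg, Finset.sum_neg_distrib]
      rw [← hd, ← sub_eq_add_neg, sub_eq_zero]
      exact Finset.sum_congr rfl fun i _ => mul_comm _ _)
    suffices ∀ x : Fin (s + 1) → MvPolynomial (Fin N) L,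
        x ∈ Submodule.span (MvPolynomial (Fin N) L) ((spec χ) '' (V : Set (Fin (s + 1) → MvPolynomial (Fin N) B₀))) →
        x 0 ∈ Ideal.span (Set.range GX) by simpa using this _ hgx
    intro x hx
    induction hx using Submodule.span_induction with
    | mem x hx =>
      obtain ⟨v, hv, rfl⟩ := hx
      have h1 := hT₅ ⟨v, hv⟩ BA (hB5 ⟨v, hv⟩) (MvPolynomial.map incl.toRingHom (v 0)) GB (hincl _) hGB
      have h2 := map_mem_span (MvPolynomial.map ψL) h1
      rw [hGL, MvPolynomial.map_map] at h2
      exact h2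
    | zero => exact zero_mem _
    | add x y _ _ hx hy => exact add_mem hx hy
    | smul a x _ hx => exact Ideal.mul_mem_left _ a hx
  have hrad : (Ideal.span (Set.range fun j => MvPolynomial.map ψL (FB j))).radical =
      Ideal.span (Set.range GX) := by
    have h1 := (hCB.map ψL).radical_eq (by
      rw [hGL]
      simp only [bB, MvPolynomial.map_map]
      exact hnz)
    rwa [hGL] at h1
  have hcomap : (Ideal.span (Set.range fun j => MvPolynomial.map φ (F j))).radical =
      (Ideal.span (Set.range GX)).comap (MvPolynomial.map (algebraMap k L)) := by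
    rw [← hrad, Ideal.comap_radical, ← comap_span_map (L := L)]
    congr 3
    refine congrArg _ (funext fun j => ?_)
    simp only [FB, MvPolynomial.map_map]
    exact congrArg (fun h => MvPolynomial.map h (F j)) (RingHom.ext fun a => (hψA a).symm)
  refine le_antisymm (Ideal.span_le.2 fun z hz => hz.1) ?_
  conv_lhs => rw [hcomap, hDr _ k L rfl GX (fun i => (totalDegree_map_le χ _).trans
    (Finset.le_sup (f := fun i => (G₀ i).totalDegree) (Finset.mem_univ i)))]
  refine Ideal.span_mono fun z hz => ⟨?_, hz.2.trans (Finset.le_sup (Finset.mem_range.2 hrank))⟩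
  rw [hcomap]
  exact hz.1

end Groth.Calg2.Uniform
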