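import Groth.Agent.GenericFree.Basic
import Mathlib.RingTheory.Polynomial.Basic
import Mathlib.RingTheory.Noetherian.Basic
import Mathlib.LinearAlgebra.StdBasis

/-!
# Generic syzygies

For a matrix over `A[T]`, `A` a Noetherian domain, finitely many syzygies specialise to generators
of the syzygies over every `A`-algebra in which one fixed nonzero element of `A` is invertible.
-/

universe u v w

namespace Groth.Calg2.Uniform

open MvPolynomial

section Extend

variable {A : Type u} [CommRing A] {X Y W : Type*} [AddCommGroup X] [Module A X] [AddCommGroup Y]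
  [Module A Y] [AddCommGroup W] [Module A W]

/-- A linear map extends along an injection with `f`-power torsion cokernel if `f` is invertible on
the target. -/
theorem exists_extend (e : X →ₗ[A] Y) (he : Function.Injective e) {f : A}
    (hs : ∀ y, ∃ k : ℕ, f ^ k • y ∈ LinearMap.range e)
    (hW : Function.Bijective (fun w : W => f • w)) (g : X →ₗ[A] W) :
    ∃ h : Y →ₗ[A] W, ∀ x, h (e x) = g x := by
  choose k x hx using hs
  let fk : ℕ → W → W := fun n w => f ^ n • w
  have hfk : ∀ n, Function.Bijective (fk n) := by
    intro n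
    induction n with
    | zero =>
      have : fk 0 = id := funext fun w => by simp [fk]
      rw [this]; exact Function.bijective_id
    | succ n ih =>
      have : fk (n + 1) = (fun w => f • w) ∘ fk n := funext fun w => by
        simp [fk, pow_succ', mul_smul]
      rw [this]; exact hW.comp ih
  choose r hr using fun y => (hfk (k y)).2 (g (x y))
  -- `r y` is characterised by any relation `f ^ n • y = e z`
  have key : ∀ (y : Y) (n : ℕ) (z : X), f ^ n • y = e z → f ^ n • r y = g z := by
    intro y n z hz
    apply (hfk (k y)).1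
    change f ^ k y • f ^ n • r y = f ^ k y • g z
    rw [smul_comm, show f ^ k y • r y = g (x y) from hr y, ← map_smul, ← map_smul]
    refine congrArg g (he ?_)
    rw [map_smul, map_smul, hx, ← hz, smul_comm]
  refine ⟨{ toFun := r, map_add' := fun y y' => ?_, map_smul' := fun c y => ?_ }, fun z => ?_⟩
  · apply (hfk (k y + k y')).1
    change f ^ (k y + k y') • r (y + y') = f ^ (k y + k y') • (r y + r y')
    rw [key (y + y') (k y + k y') (f ^ k y' • x y + f ^ k y • x y') ?_, map_add, map_smul, map_smul,
      smul_add]
    · congr 1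
      · rw [← show f ^ k y • r y = g (x y) from hr y, smul_smul, ← pow_add, add_comm]
      · rw [← show f ^ k y' • r y' = g (x y') from hr y', smul_smul, ← pow_add]
    · rw [map_add, map_smul, map_smul, hx, hx, smul_smul, smul_smul, ← pow_add, ← pow_add,
        add_comm (k y'), smul_add]
  · apply (hfk (k y)).1
    change f ^ k y • r (c • y) = f ^ k y • c • r y
    rw [key (c • y) (k y) (c • x y) (by rw [map_smul, hx, smul_comm]), map_smul, smul_comm,
      show f ^ k y • r y = g (x y) from hr y]
  · simpa using key (e z) 0 z (by simp)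

end Extend

variable {A : Type u} [CommRing A] {σ : Type} {a b : ℕ}

/-- Specialisation of vectors of polynomials. -/
noncomputable def spec {L : Type v} [CommRing L] (φ : A →+* L) {n : ℕ}
    (v : Fin n → MvPolynomial σ A) : Fin n → MvPolynomial σ L :=
  fun i => MvPolynomial.map φ (v i)

theorem spec_span_le {L : Type v} [CommRing L] [Algebra A L] {n : ℕ}
    (T : Submodule (MvPolynomial σ L) (Fin n → MvPolynomial σ L))
    (h : ∀ v : Fin n → MvPolynomial σ A, spec (algebraMap A L) v ∈ T) : T = ⊤ := by
  rw [eq_top_iff, ← (Pi.basisFun (MvPolynomial σ L) (Fin n)).span_eq, Submodule.span_le]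
  rintro _ ⟨i, rfl⟩
  have h1 := h (Pi.single i 1)
  have : spec (algebraMap A L) (Pi.single i (1 : MvPolynomial σ A)) = Pi.single i 1 := by
    ext1 j
    simp only [spec, Pi.single_apply]
    split <;> simp
  rw [this] at h1
  rwa [Pi.basisFun_apply]

/-- **Generic syzygies.** -/
theorem exists_generic_syzygies [IsDomain A] [IsNoetherianRing A] [Finite σ]
    (M : Fin b → Fin a → MvPolynomial σ A) :
    ∃ (f : A) (V : Finset (Fin a → MvPolynomial σ A)), f ≠ 0 ∧
      (∀ v ∈ V, ∀ i, ∑ j, M i j * v j = 0) ∧
      ∀ (L : Type v) [CommRing L] (φ : A →+* L), IsUnit (φ f) →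
        ∀ x : Fin a → MvPolynomial σ L, (∀ i, ∑ j, MvPolynomial.map φ (M i j) * x j = 0) →
          x ∈ Submodule.span (MvPolynomial σ L) ((spec φ) '' (V : Set (Fin a → MvPolynomial σ A))) := by
  classical
  let u : (Fin a → MvPolynomial σ A) →ₗ[MvPolynomial σ A] (Fin b → MvPolynomial σ A) :=
    { toFun := fun v i => ∑ j, M i j * v j
      map_add' := fun v w => by ext1 i; simp [mul_add, Finset.sum_add_distrib]
      map_smul' := fun c v => by
        ext1 i
        simp only [Pi.smul_apply, smul_eq_mul, RingHom.id_apply, Finset.mul_sum]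
        exact Finset.sum_congr rfl fun j _ => by ring }
  obtain ⟨V, hV⟩ : (LinearMap.ker u).FG := IsNoetherian.noetherian _
  have hVker : ∀ v ∈ V, u v = 0 := fun v hv => by
    rw [← LinearMap.mem_ker, ← hV]; exact Submodule.subset_span hv
  obtain ⟨f, hf, ι, φ₀, hφ₀, hcof⟩ := GenericFree.gf_of_finiteType (R := A) (MvPolynomial σ A)
    ((Fin b → MvPolynomial σ A) ⧸ LinearMap.range u)
  -- lift the free generators
  choose s hs using fun i => Submodule.mkQ_surjective (LinearMap.range u) (φ₀ (Finsupp.single i 1))
  let lft : (ι →₀ A) →ₗ[A] (Fin b → MvPolynomial σ A) := Finsupp.linearCombination A s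
  have hlft : ∀ y, Submodule.mkQ (LinearMap.range u) (lft y) = φ₀ y := by
    have : ((Submodule.mkQ (LinearMap.range u)).restrictScalars A).comp lft = φ₀ := by
      refine Finsupp.lhom_ext' fun i => LinearMap.ext_ring ?_
      simp only [lft, LinearMap.comp_apply, Finsupp.lsingle_apply, Finsupp.linearCombination_single,
        one_smul]
      exact hs i
    exact LinearMap.congr_fun this
  let I := LinearMap.range (u.restrictScalars A)
  let e : (I × (ι →₀ A)) →ₗ[A] (Fin b → MvPolynomial σ A) := I.subtype.coprod lft
  have he : Function.Injective e := by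
    rw [injective_iff_map_eq_zero]
    rintro ⟨z, y⟩ h
    simp only [e, LinearMap.coprod_apply, Submodule.subtype_apply] at h
    have hy : y = 0 := hφ₀ (by
      rw [map_zero, ← hlft, Submodule.mkQ_apply, Submodule.Quotient.mk_eq_zero,
        eq_neg_of_add_eq_zero_right h]
      obtain ⟨w, hw⟩ := z.2
      exact neg_mem ⟨w, hw⟩)
    subst hy
    rw [map_zero, add_zero] at h
    exact Prod.ext (Subtype.ext h) rfl
  have hes : ∀ y, ∃ k : ℕ, f ^ k • y ∈ LinearMap.range e := by
    intro y
    obtain ⟨k, z, hz⟩ := hcof (Submodule.mkQ (LinearMap.range u) y)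
    refine ⟨k, (⟨f ^ k • y - lft z, ?_⟩, z), ?_⟩
    · change f ^ k • y - lft z ∈ LinearMap.range u
      rw [← Submodule.Quotient.mk_eq_zero (LinearMap.range u), Submodule.Quotient.mk_sub,
        ← Submodule.mkQ_apply, ← Submodule.mkQ_apply, hlft, hz, LinearMap.map_smul_of_tower,
        sub_self]
    · simp [e]
  refine ⟨f, V, hf, fun v hv i => congrFun (hVker v hv) i, fun L _ φ hfu x hx => ?_⟩
  let _ := φ.toAlgebra
  let S := Submodule.span (MvPolynomial σ L) ((spec φ) '' (V : Set (Fin a → MvPolynomial σ A)))
  let W := (Fin a → (MvPolynomial σ L)) ⧸ S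
  let π : (Fin a → MvPolynomial σ A) →ₗ[A] (Fin a → (MvPolynomial σ L)) :=
    { toFun := spec φ
      map_add' := fun v w => by ext1 i; simp [spec]
      map_smul' := fun c v => by
        ext1 i
        simp only [spec, Pi.smul_apply, RingHom.id_apply, smul_eq_C_mul, map_mul, map_C]
        rw [← algebraMap_smul L c, MvPolynomial.smul_eq_C_mul]
        rfl }
  have hπker : LinearMap.ker (u.restrictScalars A) ≤
      LinearMap.ker (((Submodule.mkQ S).restrictScalars A).comp π) := by
    intro v hv
    have hv' : v ∈ Submodule.span (MvPolynomial σ A) (V : Set (Fin a → MvPolynomial σ A)) := by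
      rw [hV]; exact hv
    change Submodule.mkQ S (spec φ v) = 0
    rw [Submodule.mkQ_apply, Submodule.Quotient.mk_eq_zero]
    clear hv
    induction hv' using Submodule.span_induction with
    | mem w hw => exact Submodule.subset_span ⟨w, hw, rfl⟩
    | zero =>
      have : spec φ (0 : Fin a → MvPolynomial σ A) = 0 := by ext1 i; simp [spec]
      rw [this]; exact zero_mem _
    | add v w _ _ hv hw =>
      have : spec φ (v + w) = spec φ v + spec φ w := by ext1 i; simp [spec]
      rw [this]; exact add_mem hv hw
    | smul c w _ hw =>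
      have : spec φ (c • w) = MvPolynomial.map φ c • spec φ w := by ext1 i; simp [spec]
      rw [this]; exact S.smul_mem _ hw
  -- the map `I → W`
  let q : ((Fin a → MvPolynomial σ A) ⧸ LinearMap.ker (u.restrictScalars A)) →ₗ[A] W :=
    (LinearMap.ker (u.restrictScalars A)).liftQ _ hπker
  let g : I →ₗ[A] W := q.comp (u.restrictScalars A).quotKerEquivRange.symm.toLinearMap
  have hg : ∀ v, g ⟨u v, ⟨v, rfl⟩⟩ = Submodule.mkQ S (spec φ v) := by
    intro v
    change q ((u.restrictScalars A).quotKerEquivRange.symm ⟨(u.restrictScalars A) v, ⟨v, rfl⟩⟩) = _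
    rw [LinearMap.quotKerEquivRange_symm_apply_image]
    rfl
  have hfW : Function.Bijective (fun w : W => f • w) := by
    have : (fun w : W => f • w) = fun w => φ f • w := funext fun w => (algebraMap_smul L f w).symm
    rw [this]
    exact hfu.smul_bijective
  obtain ⟨h, hh⟩ := exists_extend e he hes hfW (g.comp (LinearMap.fst A _ _))
  -- its `L`-linear extension to `L[T]^b`
  let bN : Module.Basis (Σ _ : Fin b, σ →₀ ℕ) A (Fin b → MvPolynomial σ A) :=
    Pi.basis fun _ => basisMonomials σ A
  let bN' : Module.Basis (Σ _ : Fin b, σ →₀ ℕ) L (Fin b → (MvPolynomial σ L)) :=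
    Pi.basis fun _ => basisMonomials σ L
  let H : (Fin b → (MvPolynomial σ L)) →ₗ[L] W := bN'.constr L fun p => h (bN p)
  let π' : (Fin b → MvPolynomial σ A) →ₗ[A] (Fin b → (MvPolynomial σ L)) :=
    { toFun := spec φ
      map_add' := fun v w => by ext1 i; simp [spec]
      map_smul' := fun c v => by
        ext1 i
        simp only [spec, Pi.smul_apply, RingHom.id_apply, smul_eq_C_mul, map_mul, map_C]
        rw [← algebraMap_smul L c, MvPolynomial.smul_eq_C_mul]
        rfl }
  have hH : ∀ n, H (spec φ n) = h n := by
    have : (H.restrictScalars A).comp π' = h := bN.ext fun p => by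
      have hp : π' (bN p) = bN' p := by
        obtain ⟨i, m⟩ := p
        change spec φ (bN ⟨i, m⟩) = bN' ⟨i, m⟩
        ext1 j
        simp only [bN, bN', spec, Pi.basis_apply, coe_basisMonomials, Pi.single_apply]
        split <;> simp
      simp only [LinearMap.comp_apply, hp, H, LinearMap.coe_restrictScalars, Module.Basis.constr_basis]
    exact LinearMap.congr_fun this
  -- `H ∘ u_L` is the projection
  let uL : (Fin a → (MvPolynomial σ L)) →ₗ[(MvPolynomial σ L)] (Fin b → (MvPolynomial σ L)) :=
    { toFun := fun v i => ∑ j, MvPolynomial.map φ (M i j) * v j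
      map_add' := fun v w => by ext1 i; simp [mul_add, Finset.sum_add_distrib]
      map_smul' := fun c v => by
        ext1 i
        simp only [Pi.smul_apply, smul_eq_mul, RingHom.id_apply, Finset.mul_sum]
        exact Finset.sum_congr rfl fun j _ => by ring }
  have huspec : ∀ v, uL (spec φ v) = spec φ (u v) := fun v => by
    ext1 i; simp [uL, u, spec, map_sum]
  let bM : Module.Basis (Σ _ : Fin a, σ →₀ ℕ) A (Fin a → MvPolynomial σ A) :=
    Pi.basis fun _ => basisMonomials σ A
  let bM' : Module.Basis (Σ _ : Fin a, σ →₀ ℕ) L (Fin a → (MvPolynomial σ L)) :=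
    Pi.basis fun _ => basisMonomials σ L
  have hmain : H.comp (uL.restrictScalars L) = (Submodule.mkQ S).restrictScalars L := bM'.ext fun p => by
    have hp : spec φ (bM p) = bM' p := by
      obtain ⟨i, m⟩ := p
      ext1 j
      simp only [bM, bM', spec, Pi.basis_apply, coe_basisMonomials, Pi.single_apply]
      split <;> simp
    simp only [LinearMap.comp_apply, LinearMap.coe_restrictScalars]
    rw [← hp, huspec, hH]
    have h1 := hh (⟨u (bM p), ⟨bM p, rfl⟩⟩, 0)
    simp only [e, LinearMap.coprod_apply, Submodule.subtype_apply, map_zero, add_zero,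
      LinearMap.comp_apply, LinearMap.fst_apply] at h1
    rw [h1]
    exact hg (bM p)
  have hx0 : uL x = 0 := funext hx
  have := LinearMap.congr_fun hmain x
  simp only [LinearMap.comp_apply, LinearMap.coe_restrictScalars, hx0, map_zero,
    Submodule.mkQ_apply] at this
  exact (Submodule.Quotient.mk_eq_zero S).1 this.symm

end Groth.Calg2.Uniform
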